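import Mathlib

/-!
The elements of norm one of an extension `K / F` of finite fields generate `K` as a ring.
-/

set_option autoImplicit false

namespace Cfsg.Agent.H923

open Module

variable {F K : Type*} [Field F] [Field K] [Algebra F K]

/-- The number of elements of norm one. -/
theorem card_norm_one [Finite K] :
    Nat.card (Units.map (Algebra.norm F (S := K))).ker * (Nat.card F - 1) = Nat.card K - 1 := by
  have : Finite F := Finite.of_injective _ (algebraMap F K).injective
  have h1 := Subgroup.card_mul_index (Units.map (Algebra.norm F (S := K))).ker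
  rw [Subgroup.index_ker, MonoidHom.range_eq_top.2 (FiniteField.unitsMap_norm_surjective F K)] at h1
  rw [Nat.card_congr (Subgroup.topEquiv (G := Fˣ)).toEquiv, Nat.card_units, Nat.card_units] at h1
  exact h1

theorem sq_card_le [Finite K] (hr : 2 ≤ finrank F K) : Nat.card F ^ 2 ≤ Nat.card K := by
  have : Finite F := Finite.of_injective _ (algebraMap F K).injective
  have := Fintype.ofFinite F
  have := Fintype.ofFinite K
  have : FiniteDimensional F K := FiniteDimensional.of_finrank_pos (by omega)
  rw [Nat.card_eq_fintype_card, Nat.card_eq_fintype_card, Module.card_eq_pow_finrank (K := F) (V := K)]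
  exact Nat.pow_le_pow_right Fintype.card_pos hr

/-- There is an element of norm one other than `1`. -/
theorem exists_norm_one_ne [Finite K] (hr : 2 ≤ finrank F K) :
    ∃ κ : K, Algebra.norm F κ = 1 ∧ κ ≠ 1 := by
  have : Finite F := Finite.of_injective _ (algebraMap F K).injective
  by_contra hcon
  push Not at hcon
  have h1 := card_norm_one (F := F) (K := K)
  have h2 : Nat.card (Units.map (Algebra.norm F (S := K))).ker = 1 := by
    rw [Subgroup.card_eq_one, eq_bot_iff]
    intro u hu
    rw [Subgroup.mem_bot]
    ext
    apply hcon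
    have := (MonoidHom.mem_ker).1 hu
    simpa using congrArg Units.val this
  have h3 := sq_card_le (F := F) (K := K) hr
  have h4 : 1 < Nat.card F := Finite.one_lt_card
  rw [h2, one_mul] at h1
  have h5 : 1 ≤ Nat.card K := Nat.card_pos
  have h6 : Nat.card K = Nat.card F := by omega
  rw [h6] at h3
  nlinarith

/-- An additive subgroup of `K` stable under the elements of norm one is zero or everything. -/
theorem eq_top_of_norm_one [Finite K] (hr : 2 ≤ finrank F K) (A : AddSubgroup K)
    (hA : ∀ κ a : K, Algebra.norm F κ = 1 → a ∈ A → κ * a ∈ A) (hne : ∃ a ∈ A, a ≠ 0) :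
    A = ⊤ := by
  classical
  have : Finite F := Finite.of_injective _ (algebraMap F K).injective
  let R : Subring K :=
    { carrier := {ρ | ∀ a ∈ A, ρ * a ∈ A}
      mul_mem' := by
        intro ρ σ hρ hσ a ha
        rw [mul_assoc]
        exact hρ _ (hσ _ ha)
      one_mem' := by
        intro a ha
        rwa [one_mul]
      add_mem' := by
        intro ρ σ hρ hσ a ha
        rw [add_mul]
        exact A.add_mem (hρ _ ha) (hσ _ ha)
      zero_mem' := by
        intro a _
        rw [zero_mul]
        exact A.zero_mem
      neg_mem' := by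
        intro ρ hρ a ha
        rw [neg_mul]
        exact A.neg_mem (hρ _ ha) }
  have hR : ∀ ρ : K, ρ ∈ R ↔ ∀ a ∈ A, ρ * a ∈ A := fun ρ => Iff.rfl
  obtain ⟨a, ha, ha0⟩ := hne
  suffices h : R = ⊤ by
    rw [eq_top_iff]
    intro x _
    have h1 : x * a⁻¹ ∈ R := by rw [h]; trivial
    have h2 := (hR _).1 h1 a ha
    rwa [mul_assoc, inv_mul_cancel₀ ha0, mul_one] at h2
  -- `R` is a field
  have := Fintype.ofFinite K
  have := Fintype.ofFinite R
  let _ : Field R := Fintype.fieldOfDomain R
  have hcard : Fintype.card K = Fintype.card R ^ finrank R K := Module.card_eq_pow_finrank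
  have hpos : 0 < finrank R K := finrank_pos
  by_cases h1 : finrank R K = 1
  · have h2 : Fintype.card K = Fintype.card R := by rw [hcard, h1, pow_one]
    have h3 : Function.Surjective (Subtype.val : R → K) :=
      (Fintype.bijective_iff_injective_and_card _).2 ⟨Subtype.val_injective, h2.symm⟩ |>.2
    rw [eq_top_iff]
    intro x _
    obtain ⟨y, rfl⟩ := h3 x
    exact y.2
  · exfalso
    have h2 : Nat.card R ^ 2 ≤ Nat.card K := by
      rw [Nat.card_eq_fintype_card, Nat.card_eq_fintype_card, hcard]
      exact Nat.pow_le_pow_right Fintype.card_pos (by omega)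
    have h3 : Nat.card (Units.map (Algebra.norm F (S := K))).ker + 1 ≤ Nat.card R := by
      have h4 : Nat.card (Option (Units.map (Algebra.norm F (S := K))).ker) ≤ Nat.card R := by
        let f : Option (Units.map (Algebra.norm F (S := K))).ker → R := fun o =>
          match o with
          | none => 0
          | some u => ⟨((u : Kˣ) : K), (hR _).2 fun b hb => hA _ _ (by
              have := (MonoidHom.mem_ker).1 u.2
              simpa using congrArg Units.val this) hb⟩
        refine Nat.card_le_card_of_injective f ?_
        rintro (_ | u) (_ | v) h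
        · rfl
        · exfalso
          have h5 : (0 : K) = ((v : Kˣ) : K) := congrArg Subtype.val h
          exact (Units.ne_zero _) h5.symm
        · exfalso
          have h5 : ((u : Kˣ) : K) = 0 := congrArg Subtype.val h
          exact (Units.ne_zero _) h5
        · have h5 : ((u : Kˣ) : K) = ((v : Kˣ) : K) := congrArg Subtype.val h
          rw [Subtype.ext (Units.ext h5)]
      rwa [Finite.card_option] at h4
    have h4 := card_norm_one (F := F) (K := K)
    have h5 := sq_card_le (F := F) (K := K) hr
    have h6 : 1 < Nat.card F := Finite.one_lt_card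
    generalize Nat.card (Units.map (Algebra.norm F (S := K))).ker = k at *
    generalize Nat.card F = q at *
    generalize Nat.card K = N at *
    generalize Nat.card R = s at *
    obtain ⟨q', rfl⟩ : ∃ q', q = q' + 2 := ⟨q - 2, by omega⟩
    have h7 : k * (q' + 1) = N - 1 := by simpa using h4
    have h8 : q' + 3 ≤ k := by
      by_contra hlt
      have : k * (q' + 1) ≤ (q' + 2) * (q' + 1) := Nat.mul_le_mul_right _ (by omega)
      have : (q' + 2) ^ 2 ≤ N := h5
      nlinarith [h7, Nat.sub_add_cancel (show 1 ≤ N by nlinarith)]
    have h9 : 1 ≤ N := by nlinarith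
    obtain ⟨N', rfl⟩ : ∃ N', N = N' + 1 := ⟨N - 1, by omega⟩
    simp only [Nat.add_sub_cancel] at h7
    -- (s - 1)(q - 1) ≥ N - 1 ≥ s² - 1
    obtain ⟨s', rfl⟩ : ∃ s', s = s' + 1 := ⟨s - 1, by omega⟩
    have h10 : k ≤ s' := by omega
    have h11 : N' ≤ s' * (q' + 1) := by rw [← h7]; exact Nat.mul_le_mul_right _ h10
    nlinarith

end Cfsg.Agent.H923
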