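import Mathlib

/-!
Square-zero unipotents and transvections in subgroups of `V ≃ₗ[F] V`.

* `U1 L α` : the map `z ↦ z + α z` is (induced by) an element of `L`;
* `Tv L x φ` : `φ x = 0` and the transvection `z ↦ z + φ z • x` lies in `L`.
-/

set_option autoImplicit false

namespace Cfsg.Agent.H923

open Module

section Basic

variable {F V : Type*} [Field F] [AddCommGroup V] [Module F V]

/-- `1 + α` lies in `L`. -/
def U1 (L : Subgroup (V ≃ₗ[F] V)) (α : V →ₗ[F] V) : Prop := ∃ g ∈ L, ∀ z, g z = z + α z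

/-- The transvection `z ↦ z + φ z • x` lies in `L` (and `φ x = 0`). -/
def Tv (L : Subgroup (V ≃ₗ[F] V)) (x : V) (φ : V →ₗ[F] F) : Prop :=
  φ x = 0 ∧ ∃ g ∈ L, ∀ z, g z = z + φ z • x

variable {L : Subgroup (V ≃ₗ[F] V)}

theorem U1.zero : U1 L 0 := ⟨1, L.one_mem, fun z => by simp⟩

theorem U1.mul {α β : V →ₗ[F] V} (hα : U1 L α) (hβ : U1 L β) : U1 L (α + β + α ∘ₗ β) := by
  obtain ⟨g, hg, hgz⟩ := hα
  obtain ⟨h, hh, hhz⟩ := hβ
  refine ⟨g * h, L.mul_mem hg hh, fun z => ?_⟩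
  rw [LinearEquiv.mul_apply, hhz, hgz]
  simp only [map_add, LinearMap.add_apply, LinearMap.comp_apply]
  abel

theorem U1.add {α β : V →ₗ[F] V} (hα : U1 L α) (hβ : U1 L β) (h : α ∘ₗ β = 0) :
    U1 L (α + β) := by
  have := hα.mul hβ
  rwa [h, add_zero] at this

theorem U1.neg {α : V →ₗ[F] V} (hα : U1 L α) (h : α ∘ₗ α = 0) : U1 L (-α) := by
  obtain ⟨g, hg, hgz⟩ := hα
  have h' : ∀ z, α (α z) = 0 := fun z => by
    have := LinearMap.congr_fun h z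
    simpa using this
  refine ⟨g⁻¹, L.inv_mem hg, fun z => ?_⟩
  have h1 : g (z + (-α) z) = z := by
    rw [hgz]
    simp [h']
  have h2 : g⁻¹ (g (z + (-α) z)) = z + (-α) z := by
    rw [← LinearEquiv.mul_apply, inv_mul_cancel, LinearEquiv.coe_one, id]
  rw [← h2, h1]

theorem U1.conj {α : V →ₗ[F] V} (hα : U1 L α) {g : V ≃ₗ[F] V} (hg : g ∈ L) :
    U1 L ((g : V →ₗ[F] V) ∘ₗ α ∘ₗ (g.symm : V →ₗ[F] V)) := by
  obtain ⟨h, hh, hhz⟩ := hα
  refine ⟨g * h * g⁻¹, L.mul_mem (L.mul_mem hg hh) (L.inv_mem hg), fun z => ?_⟩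
  rw [LinearEquiv.mul_apply, LinearEquiv.mul_apply, hhz, map_add]
  have h1 : g (g⁻¹ z) = z := by
    rw [← LinearEquiv.mul_apply, mul_inv_cancel, LinearEquiv.coe_one, id]
  rw [h1]
  rfl

/-- Conjugation of `1 + β` by `1 + α`, `α² = 0`. -/
theorem U1.conj_U1 {α β : V →ₗ[F] V} (hα : U1 L α) (hβ : U1 L β) (h : α ∘ₗ α = 0) :
    U1 L (β + α ∘ₗ β - β ∘ₗ α - α ∘ₗ β ∘ₗ α) := by
  obtain ⟨g, hg, hgz⟩ := hα
  have h' : ∀ z, α (α z) = 0 := fun z => by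
    have := LinearMap.congr_fun h z
    simpa using this
  have hsymm : ∀ z, g.symm z = z - α z := by
    intro z
    rw [LinearEquiv.symm_apply_eq, hgz]
    simp [h']
  have h2 := hβ.conj hg
  convert h2 using 1
  ext z
  simp only [LinearMap.sub_apply, LinearMap.add_apply, LinearMap.comp_apply,
    LinearEquiv.coe_coe, hsymm, hgz, map_sub]
  abel

/-- The commutator of `1 + α` and `1 + β`, when `β α = 0`. -/
theorem U1.comm {α β : V →ₗ[F] V} (hα : U1 L α) (hβ : U1 L β) (h : α ∘ₗ α = 0)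
    (h' : β ∘ₗ β = 0) (hba : β ∘ₗ α = 0) : U1 L (α ∘ₗ β) := by
  have h1 := hα.conj_U1 hβ h
  rw [hba, LinearMap.comp_zero, sub_zero, sub_zero] at h1
  have h2 := h1.mul (hβ.neg h')
  convert h2 using 1
  ext z
  have e : ∀ w, β (β w) = 0 := fun w => by
    have := LinearMap.congr_fun h' w
    simpa using this
  simp [e]

theorem Tv.u1 {x : V} {φ : V →ₗ[F] F} (h : Tv L x φ) : U1 L (φ.smulRight x) := h.2

theorem tv_iff {x : V} {φ : V →ₗ[F] F} : Tv L x φ ↔ φ x = 0 ∧ U1 L (φ.smulRight x) := Iff.rfl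

theorem Tv.zero_right (x : V) : Tv L x 0 := ⟨rfl, 1, L.one_mem, fun z => by simp⟩

theorem Tv.zero_left (φ : V →ₗ[F] F) : Tv L 0 φ := ⟨map_zero _, 1, L.one_mem, fun z => by simp⟩

theorem Tv.add_right {x : V} {φ ψ : V →ₗ[F] F} (hφ : Tv L x φ) (hψ : Tv L x ψ) :
    Tv L x (φ + ψ) := by
  obtain ⟨h0, g, hg, hgz⟩ := hφ
  obtain ⟨h0', h, hh, hhz⟩ := hψ
  refine ⟨by simp [h0, h0'], g * h, L.mul_mem hg hh, fun z => ?_⟩
  rw [LinearEquiv.mul_apply, hhz, hgz, map_add, map_smul, h0, smul_zero, add_zero,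
    LinearMap.add_apply, add_smul]
  abel

theorem Tv.add_left {x y : V} {φ : V →ₗ[F] F} (hx : Tv L x φ) (hy : Tv L y φ) :
    Tv L (x + y) φ := by
  obtain ⟨h0, g, hg, hgz⟩ := hx
  obtain ⟨h0', h, hh, hhz⟩ := hy
  refine ⟨by simp [h0, h0'], g * h, L.mul_mem hg hh, fun z => ?_⟩
  rw [LinearEquiv.mul_apply, hhz, hgz, map_add, map_smul, h0', smul_zero, add_zero, smul_add]
  abel

theorem Tv.neg_right {x : V} {φ : V →ₗ[F] F} (h : Tv L x φ) : Tv L x (-φ) := by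
  have h1 : U1 L (-(φ.smulRight x)) := by
    refine h.u1.neg ?_
    ext z
    simp [h.1]
  refine ⟨by simp [h.1], ?_⟩
  obtain ⟨g, hg, hgz⟩ := h1
  exact ⟨g, hg, fun z => by rw [hgz]; simp⟩

theorem Tv.sub_right {x : V} {φ ψ : V →ₗ[F] F} (hφ : Tv L x φ) (hψ : Tv L x ψ) :
    Tv L x (φ - ψ) := by
  rw [sub_eq_add_neg]; exact hφ.add_right hψ.neg_right

theorem tv_smul_comm (c : F) (x : V) (φ : V →ₗ[F] F) : Tv L (c • x) φ ↔ Tv L x (c • φ) := by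
  unfold Tv
  simp only [map_smul, LinearMap.smul_apply, smul_eq_mul, smul_smul]
  simp only [mul_comm]

theorem Tv.conj {x : V} {φ : V →ₗ[F] F} (h : Tv L x φ) {g : V ≃ₗ[F] V} (hg : g ∈ L) :
    Tv L (g x) (φ ∘ₗ (g.symm : V →ₗ[F] V)) := by
  refine ⟨by simp [h.1], ?_⟩
  obtain ⟨k, hk, hkz⟩ := h.u1.conj hg
  refine ⟨k, hk, fun z => ?_⟩
  rw [hkz]
  simp

/-- The commutator of two transvections `1 + v ⊗ ψ`, `1 + a ⊗ α` with `ψ a = 0`. -/
theorem Tv.comm {v a : V} {ψ α : V →ₗ[F] F} (hv : Tv L v ψ) (ha : Tv L a α) (h : ψ a = 0) :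
    Tv L a (α v • ψ) := by
  have h1 := ha.u1.comm hv.u1 (by ext z; simp [ha.1]) (by ext z; simp [hv.1])
    (by ext z; simp [h])
  refine ⟨by simp [h], ?_⟩
  obtain ⟨g, hg, hgz⟩ := h1
  refine ⟨g, hg, fun z => ?_⟩
  rw [hgz]
  simp [mul_comm]

theorem U1.mono {L' : Subgroup (V ≃ₗ[F] V)} {α : V →ₗ[F] V} (h : U1 L α) (hL : L ≤ L') :
    U1 L' α := by
  obtain ⟨g, hg, hgz⟩ := h
  exact ⟨g, hL hg, hgz⟩

theorem Tv.mono {L' : Subgroup (V ≃ₗ[F] V)} {x : V} {φ : V →ₗ[F] F} (h : Tv L x φ) (hL : L ≤ L') :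
    Tv L' x φ := ⟨h.1, h.u1.mono hL⟩

end Basic

end Cfsg.Agent.H923
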