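import Mathlib
import Cfsg.Agent.H923.Unip
import Cfsg.Agent.H923.NormGen

/-!
Overgroups of `SL_m(K)` (and the elements `diag(κ, 1, ..., 1)`, `N(κ) = 1`) in `GL_F(V)`, `V` a vector space
over the extension `K` of `F`: if such a group contains one `F`-transvection then it contains all.
-/

set_option autoImplicit false

namespace Cfsg.Agent.H923

open Module

section Ext

variable {F K V : Type*} [Field F] [Field K] [Algebra F K] [AddCommGroup V] [Module F V] [Module K V]
  [IsScalarTower F K V]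

/-- `L` contains the `K`-transvections and the maps `κ` on `K y`, `1` on a complement, `N(κ) = 1`. -/
structure ExtData (F K : Type*) {V : Type*} [Field F] [Field K] [Algebra F K] [AddCommGroup V]
    [Module F V] [Module K V] [IsScalarTower F K V] (L : Subgroup (V ≃ₗ[F] V)) : Prop where
  trans : ∀ (v : V) (ψ : V →ₗ[K] K), ψ v = 0 → U1 L ((ψ.smulRight v).restrictScalars F)
  dil : ∀ (y : V) (ψ : V →ₗ[K] K) (κ : K), ψ y = 1 → Algebra.norm F κ = 1 →
    U1 L ((((κ - 1) • ψ).smulRight y).restrictScalars F)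

/-- Every `F`-functional is `θ ∘ ψ` for a `K`-functional `ψ`. -/
theorem exists_psi [Finite K] [FiniteDimensional K V] (θ : K →ₗ[F] F) (hθ : θ ≠ 0)
    (χ : V →ₗ[F] F) : ∃ ψ : V →ₗ[K] K, ∀ z, χ z = θ (ψ z) := by
  have : Finite F := Finite.of_injective _ (algebraMap F K).injective
  have : FiniteDimensional F K := inferInstance
  have : FiniteDimensional F V := FiniteDimensional.trans F K V
  obtain ⟨c, hc⟩ : ∃ c, θ c ≠ 0 := by
    by_contra h
    push Not at h
    exact hθ (LinearMap.ext h)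
  let Ψ : (V →ₗ[K] K) →ₗ[F] (V →ₗ[F] F) :=
    { toFun := fun ψ => θ ∘ₗ (ψ.restrictScalars F)
      map_add' := fun x y => by ext z; simp
      map_smul' := fun c x => by ext z; simp }
  have hinj : Function.Injective Ψ := by
    rw [injective_iff_map_eq_zero]
    intro ψ hψ
    ext z
    by_contra hz
    apply hc
    have h1 := LinearMap.congr_fun hψ ((c * (ψ z)⁻¹) • z)
    simpa [Ψ, mul_assoc, inv_mul_cancel₀ (show ψ z ≠ 0 from hz)] using h1
  have hfin : finrank F (V →ₗ[K] K) = finrank F (V →ₗ[F] F) := by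
    rw [← finrank_mul_finrank F K (V →ₗ[K] K)]
    have h1 : finrank K (V →ₗ[K] K) = finrank K V := Subspace.dual_finrank_eq
    have h2 : finrank F (V →ₗ[F] F) = finrank F V := Subspace.dual_finrank_eq
    rw [h1, h2, finrank_mul_finrank]
  have : FiniteDimensional F (V →ₗ[K] K) := FiniteDimensional.trans F K _
  obtain ⟨ψ, hψ⟩ := (LinearMap.injective_iff_surjective_of_finrank_eq_finrank hfin).1 hinj χ
  exact ⟨ψ, fun z => by rw [← hψ]; rfl⟩

variable {L : Subgroup (V ≃ₗ[F] V)}

theorem ExtData.exists_map_of_indep (h : ExtData F K L) {x y : V} (hxy : x ∉ K ∙ (y - x)) :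
    ∃ g ∈ L, g x = y := by
  obtain ⟨ψ, hψ, hle⟩ := Submodule.exists_le_ker_of_notMem hxy
  have h0 : ψ (y - x) = 0 := hle (Submodule.mem_span_singleton_self _)
  obtain ⟨g, hg, hgz⟩ := h.trans (y - x) ((ψ x)⁻¹ • ψ) (by simp [h0])
  refine ⟨g, hg, ?_⟩
  rw [hgz]
  simp [hψ]

/-- Transitivity on nonzero vectors. -/
theorem ExtData.exists_map (h : ExtData F K L) (hm : 2 ≤ finrank K V) {x y : V} (hx : x ≠ 0)
    (hy : y ≠ 0) : ∃ g ∈ L, g x = y := by
  have key : ∀ a b : V, a ≠ 0 → b ∉ K ∙ a → ∃ g ∈ L, g a = b := by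
    intro a b ha hb
    refine h.exists_map_of_indep fun hmem => ?_
    obtain ⟨c, hc⟩ := Submodule.mem_span_singleton.1 hmem
    have hc0 : c ≠ 0 := by
      rintro rfl
      rw [zero_smul] at hc
      exact ha hc.symm
    apply hb
    have h1 : b = c⁻¹ • a + a := by
      have : b - a = c⁻¹ • a := by
        conv_rhs => rw [← hc, smul_smul, inv_mul_cancel₀ hc0, one_smul]
      rw [← this, sub_add_cancel]
    rw [h1]
    exact Submodule.add_mem _ (Submodule.smul_mem _ _ (Submodule.mem_span_singleton_self _))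
      (Submodule.mem_span_singleton_self _)
  by_cases hxy : y ∈ K ∙ x
  · -- a third vector
    obtain ⟨z, hz⟩ : ∃ z, z ∉ K ∙ x := by
      by_contra hall
      push Not at hall
      have h1 : (K ∙ x) = ⊤ := eq_top_iff.2 fun z _ => hall z
      have h2 := finrank_span_singleton (K := K) hx
      rw [h1, finrank_top] at h2
      omega
    have hz0 : z ≠ 0 := by
      rintro rfl
      exact hz (Submodule.zero_mem _)
    obtain ⟨g, hg, hgx⟩ := key x z hx hz
    have hyz : y ∉ K ∙ z := by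
      intro hmem
      obtain ⟨c, hc⟩ := Submodule.mem_span_singleton.1 hmem
      have hc0 : c ≠ 0 := by
        rintro rfl
        rw [zero_smul] at hc
        exact hy hc.symm
      apply hz
      have : z = c⁻¹ • y := by rw [← hc, smul_smul, inv_mul_cancel₀ hc0, one_smul]
      rw [this]
      exact Submodule.smul_mem _ _ hxy
    obtain ⟨g', hg', hgz⟩ := key z y hz0 hyz
    exact ⟨g' * g, L.mul_mem hg' hg, by rw [LinearEquiv.mul_apply, hgx, hgz]⟩
  · exact key x y hx hxy

/-- One transvection with centre `x` gives all the transvections with centre `x` and axis containing `K x`. -/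
theorem ExtData.ann (h : ExtData F K L) [Finite K] [FiniteDimensional K V] (hr : 2 ≤ finrank F K)
    {x : V} {φ : V →ₗ[F] F} (hφ : Tv L x φ) (hφ0 : φ ≠ 0) {χ : V →ₗ[F] F}
    (hχ : ∀ κ : K, χ (κ • x) = 0) : Tv L x χ := by
  classical
  obtain ⟨θ, hθ⟩ : ∃ θ : K →ₗ[F] F, θ ≠ 0 := by
    obtain ⟨θ, hθ, -⟩ := Submodule.exists_le_ker_of_notMem (K := F) (V := K) (p := ⊥) (v := 1)
      (by simp)
    exact ⟨θ, fun h0 => hθ (by rw [h0]; rfl)⟩
  obtain ⟨ψ₀, hψ₀⟩ := exists_psi θ hθ φ
  obtain ⟨ψ, hψ⟩ := exists_psi θ hθ χ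
  have hψx : ψ x = 0 := by
    by_contra hne
    apply hθ
    ext c
    have := hχ (c * (ψ x)⁻¹)
    rw [hψ, map_smul, smul_eq_mul, mul_assoc, inv_mul_cancel₀ hne, mul_one] at this
    simpa using this
  have hψ₀0 : ψ₀ ≠ 0 := by
    rintro rfl
    apply hφ0
    ext z
    rw [hψ₀]
    simp
  by_cases hψ0 : ψ = 0
  · have : χ = 0 := by
      ext z
      rw [hψ, hψ0]
      simp
    rw [this]
    exact Tv.zero_right x
  -- a vector `y` with `ψ y = 1`, `ψ₀ y ≠ 0`
  obtain ⟨y, hy1, hy0⟩ : ∃ y, ψ y = 1 ∧ ψ₀ y ≠ 0 := by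
    obtain ⟨y1, hy1⟩ : ∃ y1, ψ y1 ≠ 0 := by
      by_contra hcon
      push Not at hcon
      exact hψ0 (LinearMap.ext hcon)
    have hy2 : ψ ((ψ y1)⁻¹ • y1) = 1 := by
      rw [map_smul, smul_eq_mul, inv_mul_cancel₀ hy1]
    by_cases hc : ψ₀ ((ψ y1)⁻¹ • y1) = 0
    · obtain ⟨w, hw⟩ : ∃ w, ψ₀ w ≠ 0 := by
        by_contra hcon
        push Not at hcon
        exact hψ₀0 (LinearMap.ext hcon)
      refine ⟨(ψ y1)⁻¹ • y1 + (w - ψ w • ((ψ y1)⁻¹ • y1)), ?_, ?_⟩
      · simp only [map_add, map_sub, map_smul, smul_eq_mul, inv_mul_cancel₀ hy1]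
        ring
      · simp only [map_add, map_sub, map_smul, smul_eq_mul] at hc ⊢
        rw [hc]
        simpa using hw
    · exact ⟨_, hy2, hc⟩
  -- the functionals `θ ∘ (a ψ)`
  have hconj : ∀ (κ : K) (ψ' : V →ₗ[K] K), Algebra.norm F κ = 1 →
      Tv L x (θ ∘ₗ (ψ'.restrictScalars F)) →
      Tv L x (θ ∘ₗ ((ψ' + ((κ - 1) * ψ' y) • ψ).restrictScalars F)) := by
    intro κ ψ' hκ hT
    have hκ0 : κ ≠ 0 := by
      rintro rfl
      rw [Algebra.norm_zero] at hκ
      exact zero_ne_one hκ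
    have hκ' : Algebra.norm F κ⁻¹ = 1 := by
      have h1 : Algebra.norm F κ * Algebra.norm F κ⁻¹ = 1 := by
        rw [← map_mul, mul_inv_cancel₀ hκ0, map_one]
      rwa [hκ, one_mul] at h1
    obtain ⟨g, hg, hgz⟩ := h.dil y ψ κ⁻¹ hy1 hκ'
    have h1 := hT.conj hg
    have hgx : g x = x := by
      rw [hgz]
      simp [hψx]
    have hsymm : ∀ z, g.symm z = z + ((κ - 1) * ψ z) • y := by
      intro z
      rw [LinearEquiv.symm_apply_eq, hgz]
      simp only [LinearMap.restrictScalars_apply, LinearMap.smulRight_apply, LinearMap.smul_apply,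
        map_add, map_smul, hy1, smul_eq_mul, mul_one, add_assoc]
      rw [left_eq_add, smul_smul, ← add_smul, ← add_smul]
      convert zero_smul K y using 2
      field_simp
      ring
    rw [hgx] at h1
    convert h1 using 1
    ext z
    simp only [LinearMap.comp_apply, LinearMap.restrictScalars_apply, LinearMap.add_apply,
      LinearMap.smul_apply, LinearEquiv.coe_coe, hsymm, map_add, map_smul, smul_eq_mul]
    congr 2
    ring
  let A : AddSubgroup K :=
    { carrier := {a | Tv L x (θ ∘ₗ ((a • ψ).restrictScalars F))}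
      add_mem' := by
        intro a b ha hb
        have h1 := Tv.add_right ha hb
        change Tv L x _
        convert h1 using 1
        ext z
        simp [add_mul]
      zero_mem' := by
        change Tv L x _
        convert Tv.zero_right (L := L) x using 1
        ext z
        simp
      neg_mem' := by
        intro a ha
        have h1 := Tv.neg_right ha
        change Tv L x _
        convert h1 using 1
        ext z
        simp }
  have hA : ∀ a : K, a ∈ A ↔ Tv L x (θ ∘ₗ ((a • ψ).restrictScalars F)) := fun a => Iff.rfl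
  have hAtop : A = ⊤ := by
    refine eq_top_of_norm_one (F := F) hr A ?_ ?_
    · intro κ a hκ ha
      rw [hA] at ha ⊢
      have h1 := hconj κ _ hκ ha
      convert h1 using 1
      ext z
      simp only [LinearMap.comp_apply, LinearMap.restrictScalars_apply, LinearMap.add_apply,
        LinearMap.smul_apply, smul_eq_mul, hy1]
      congr 1
      ring
    · obtain ⟨κ, hκ, hκ1⟩ := exists_norm_one_ne (F := F) (K := K) hr
      refine ⟨(κ - 1) * ψ₀ y, ?_, mul_ne_zero (sub_ne_zero.2 hκ1) hy0⟩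
      rw [hA]
      have hT : Tv L x (θ ∘ₗ (ψ₀.restrictScalars F)) := by
        convert hφ using 1
        ext z
        rw [hψ₀]
        rfl
      have h1 := (hconj κ ψ₀ hκ hT).sub_right hT
      convert h1 using 1
      ext z
      simp
  have h1 : (1 : K) ∈ A := by rw [hAtop]; trivial
  rw [hA, one_smul] at h1
  convert h1 using 1
  ext z
  rw [hψ]
  rfl

/-- One transvection gives all transvections. -/
theorem ExtData.all (h : ExtData F K L) [Finite K] [FiniteDimensional K V] (hr : 2 ≤ finrank F K)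
    (hm : 2 ≤ finrank K V) {x : V} {φ : V →ₗ[F] F} (hφ : Tv L x φ) (hx0 : x ≠ 0) (hφ0 : φ ≠ 0)
    (a : V) (χ : V →ₗ[F] F) (hχ : χ a = 0) : Tv L a χ := by
  classical
  have hΦ : ∀ y : V, y ≠ 0 → ∀ χ : V →ₗ[F] F, (∀ κ : K, χ (κ • y) = 0) → Tv L y χ := by
    intro y hy χ hχ
    obtain ⟨g, hg, hgx⟩ := h.exists_map hm hx0 hy
    have h1 := hφ.conj hg
    rw [hgx] at h1
    refine h.ann hr h1 (fun h0 => hφ0 ?_) hχ
    ext z
    have := LinearMap.congr_fun h0 (g z)
    simpa using this
  by_cases ha0 : a = 0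
  · rw [ha0]; exact Tv.zero_left χ
  by_cases hall : ∀ κ : K, χ (κ • a) = 0
  · exact hΦ a ha0 χ hall
  push Not at hall
  obtain ⟨κ₀, hκ₀⟩ := hall
  -- a vector `x` outside `K a` with `χ (K x) = 0`
  obtain ⟨θ, hθ⟩ : ∃ θ : K →ₗ[F] F, θ ≠ 0 := by
    obtain ⟨θ, hθ, -⟩ := Submodule.exists_le_ker_of_notMem (K := F) (V := K) (p := ⊥) (v := 1)
      (by simp)
    exact ⟨θ, fun h0 => hθ (by rw [h0]; rfl)⟩
  obtain ⟨ψ, hψ⟩ := exists_psi θ hθ χ
  have hψa : ψ a ≠ 0 := by
    intro h0
    apply hκ₀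
    rw [hψ, map_smul, h0, smul_zero, map_zero]
  obtain ⟨y, hy0, hyψ⟩ : ∃ y : V, y ≠ 0 ∧ ψ y = 0 := by
    have h1 : LinearMap.ker ψ ≠ ⊥ := by
      apply LinearMap.ker_ne_bot_of_finrank_lt
      rw [finrank_self]
      omega
    obtain ⟨y, hy, hy0⟩ := (Submodule.ne_bot_iff _).1 h1
    exact ⟨y, hy0, hy⟩
  have h1 : Tv L y χ := hΦ y hy0 χ fun κ => by rw [hψ, map_smul, hyψ, smul_zero, map_zero]
  -- a functional killing `K a` with value 1 at `y`
  have hya : y ∉ (K ∙ a).restrictScalars F := by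
    intro hmem
    obtain ⟨c, hc⟩ := Submodule.mem_span_singleton.1 (show y ∈ K ∙ a from hmem)
    have : c * ψ a = 0 := by rw [← smul_eq_mul, ← map_smul, hc, hyψ]
    rcases mul_eq_zero.1 this with h2 | h2
    · rw [h2, zero_smul] at hc
      exact hy0 hc.symm
    · exact hψa h2
  obtain ⟨α, hα, hle⟩ := Submodule.exists_le_ker_of_notMem hya
  have h2 : Tv L a ((α y)⁻¹ • α) := hΦ a ha0 _ fun κ => by
    have : α (κ • a) = 0 := hle (show κ • a ∈ (K ∙ a).restrictScalars F from
      Submodule.smul_mem _ _ (Submodule.mem_span_singleton_self _))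
    simp [this]
  have h3 := h1.comm h2 hχ
  rw [LinearMap.smul_apply, smul_eq_mul, inv_mul_cancel₀ hα, one_smul] at h3
  exact h3

end Ext

end Cfsg.Agent.H923
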