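import Mathlib
import Cfsg.Agent.H923.ExtOne

/-!
Overgroups of `SL_m(K)` in `GL_F(V)`, `K/F` of prime degree: if some element does not permute the
`K`-lines then some translate `U` of a `K`-line meets a `K`-line in a hyperplane.
-/

set_option autoImplicit false

namespace Cfsg.Agent.H923

open Module

section Ext

variable {F K V : Type*} [Field F] [Field K] [Algebra F K] [AddCommGroup V] [Module F V] [Module K V]
  [IsScalarTower F K V]

/-- `κ ↦ κ • y`, as an `F`-linear map. -/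
def lk (F : Type*) {K V : Type*} [Field F] [Field K] [Algebra F K] [AddCommGroup V] [Module F V]
    [Module K V] [IsScalarTower F K V] (y : V) : K →ₗ[F] V :=
  (LinearMap.toSpanSingleton K V y).restrictScalars F

omit [IsScalarTower F K V] in
theorem lk_apply [IsScalarTower F K V] (y : V) (κ : K) : lk F y κ = κ • y := rfl

theorem lk_injective {y : V} (hy : y ≠ 0) : Function.Injective (lk F (K := K) y) := by
  rw [injective_iff_map_eq_zero]
  intro κ hκ
  rw [lk_apply] at hκ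
  exact (smul_eq_zero.1 hκ).resolve_right hy

/-- The `K`-line through `y`, as an `F`-subspace. -/
def kl (F K : Type*) {V : Type*} [Field F] [Field K] [Algebra F K] [AddCommGroup V] [Module F V]
    [Module K V] [IsScalarTower F K V] (y : V) : Submodule F V :=
  LinearMap.range (lk F (K := K) y)

theorem mem_kl {y z : V} : z ∈ kl F K y ↔ ∃ κ : K, κ • y = z := Iff.rfl

theorem finrank_kl {y : V} (hy : y ≠ 0) : finrank F (kl F K y) = finrank F K :=
  LinearMap.finrank_range_of_inj (lk_injective hy)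

/-- The translates of the `K`-lines. -/
def orb (K : Type*) {F V : Type*} [Field F] [Field K] [Algebra F K] [AddCommGroup V] [Module F V]
    [Module K V] [IsScalarTower F K V] (L : Subgroup (V ≃ₗ[F] V)) : Set (Submodule F V) :=
  {U | ∃ g ∈ L, ∃ x : V, x ≠ 0 ∧ U = (kl F K x).map (g : V →ₗ[F] V)}

variable {L : Subgroup (V ≃ₗ[F] V)}

theorem kl_mem_orb {x : V} (hx : x ≠ 0) : kl F K x ∈ orb K L :=
  ⟨1, L.one_mem, x, hx, by
    ext z
    simp⟩

theorem map_mem_orb {U : Submodule F V} (hU : U ∈ orb K L) {g : V ≃ₗ[F] V} (hg : g ∈ L) :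
    U.map (g : V →ₗ[F] V) ∈ orb K L := by
  obtain ⟨h, hh, x, hx, rfl⟩ := hU
  refine ⟨g * h, L.mul_mem hg hh, x, hx, ?_⟩
  rw [← Submodule.map_comp]
  rfl

theorem finrank_orb {U : Submodule F V} (hU : U ∈ orb K L) : finrank F U = finrank F K := by
  obtain ⟨h, hh, x, hx, rfl⟩ := hU
  rw [LinearEquiv.finrank_map_eq h, finrank_kl hx]

/-- Pairs with maximal intersection. -/
theorem exists_max [Finite K] [FiniteDimensional K V]
    {g₀ : V ≃ₗ[F] V} (hg₀ : g₀ ∈ L) {x₀ : V} (hx₀ : x₀ ≠ 0)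
    (hne : ∀ y : V, y ≠ 0 → (kl F K x₀).map (g₀ : V →ₗ[F] V) ≠ kl F K y) :
    ∃ U ∈ orb K L, ∃ y : V, y ≠ 0 ∧ U ≠ kl F K y ∧ U ⊓ kl F K y ≠ ⊥ ∧
      ∀ U₁ ∈ orb K L, ∀ U₂ ∈ orb K L, U₁ ≠ U₂ →
        finrank F (U₁ ⊓ U₂ : Submodule F V) ≤ finrank F (U ⊓ kl F K y : Submodule F V) := by
  classical
  have : Finite F := Finite.of_injective _ (algebraMap F K).injective
  have : FiniteDimensional F K := inferInstance
  have : FiniteDimensional F V := FiniteDimensional.trans F K V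
  let S : Set ℕ := {n | ∃ U ∈ orb K L, ∃ y : V, y ≠ 0 ∧ U ≠ kl F K y ∧ U ⊓ kl F K y ≠ ⊥ ∧
    finrank F (U ⊓ kl F K y : Submodule F V) = n}
  have hSne : S.Nonempty := by
    refine ⟨_, (kl F K x₀).map (g₀ : V →ₗ[F] V), map_mem_orb (kl_mem_orb hx₀) hg₀, g₀ x₀, ?_,
      hne _ ?_, ?_, rfl⟩
    · exact (LinearEquiv.map_ne_zero_iff g₀).2 hx₀
    · exact (LinearEquiv.map_ne_zero_iff g₀).2 hx₀
    · rw [Submodule.ne_bot_iff]
      refine ⟨g₀ x₀, ⟨?_, ?_⟩, (LinearEquiv.map_ne_zero_iff g₀).2 hx₀⟩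
      · exact ⟨x₀, mem_kl.2 ⟨1, one_smul _ _⟩, rfl⟩
      · exact mem_kl.2 ⟨1, one_smul _ _⟩
  have hSb : BddAbove S := by
    refine ⟨finrank F V, ?_⟩
    rintro n ⟨U, -, y, -, -, -, rfl⟩
    exact Submodule.finrank_le _
  obtain ⟨U, hU, y, hy, hUy, hint, hn⟩ := Nat.sSup_mem hSne hSb
  refine ⟨U, hU, y, hy, hUy, hint, ?_⟩
  intro U₁ hU₁ U₂ hU₂ h12
  rw [hn]
  by_cases hbot : U₁ ⊓ U₂ = ⊥
  · rw [hbot, finrank_bot]
    exact Nat.zero_le _
  obtain ⟨g, hg, x, hx, rfl⟩ := hU₂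
  have hg' : g⁻¹ ∈ L := L.inv_mem hg
  have hcan : ∀ W : Submodule F V,
      (W.map (g : V →ₗ[F] V)).map ((g⁻¹ : V ≃ₗ[F] V) : V →ₗ[F] V) = W := by
    intro W
    rw [← Submodule.map_comp]
    convert Submodule.map_id W
    ext z
    change g⁻¹ (g z) = z
    rw [← LinearEquiv.mul_apply, inv_mul_cancel, LinearEquiv.coe_one, id]
  have hinf : U₁.map ((g⁻¹ : V ≃ₗ[F] V) : V →ₗ[F] V) ⊓ kl F K x =
      (U₁ ⊓ (kl F K x).map (g : V →ₗ[F] V)).map ((g⁻¹ : V ≃ₗ[F] V) : V →ₗ[F] V) := by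
    rw [Submodule.map_inf _ (LinearEquiv.injective g⁻¹), hcan]
  refine le_csSup hSb ⟨U₁.map ((g⁻¹ : V ≃ₗ[F] V) : V →ₗ[F] V), map_mem_orb hU₁ hg', x, hx, ?_, ?_, ?_⟩
  · intro heq
    apply h12
    rw [← heq, ← Submodule.map_comp]
    symm
    convert Submodule.map_id U₁
    ext z
    change g (g⁻¹ z) = z
    rw [← LinearEquiv.mul_apply, mul_inv_cancel, LinearEquiv.coe_one, id]
  · rw [hinf]
    intro h0
    rw [Submodule.map_eq_bot_iff] at h0
    exact hbot h0
  · rw [hinf, LinearEquiv.finrank_map_eq]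

/-- The special configuration. -/
theorem ExtData.exists_special (h : ExtData F K L) [Finite K] [FiniteDimensional K V]
    (hr : (finrank F K).Prime)
    {g₀ : V ≃ₗ[F] V} (hg₀ : g₀ ∈ L) {x₀ : V} (hx₀ : x₀ ≠ 0)
    (hne : ∀ y : V, y ≠ 0 → (kl F K x₀).map (g₀ : V →ₗ[F] V) ≠ kl F K y) :
    ∃ U ∈ orb K L, ∃ y : V, y ≠ 0 ∧ ∃ ψ : V →ₗ[K] K, ψ y = 0 ∧ (∃ u ∈ U, ψ u = 1) ∧
      (∀ z ∈ U, ∃ c : F, ψ z = algebraMap F K c) ∧ (∀ z ∈ U, ψ z = 0 → ∃ κ : K, κ • y = z) ∧
      (∃ κ : K, κ ≠ 0 ∧ κ • y ∈ U) ∧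
      (∃ κ₁ : K, ∀ κ : K, ∃ δ : K, δ • y ∈ U ∧ ∃ c : F, κ = δ + c • κ₁) := by
  classical
  have : Finite F := Finite.of_injective _ (algebraMap F K).injective
  have : FiniteDimensional F K := inferInstance
  have : FiniteDimensional F V := FiniteDimensional.trans F K V
  obtain ⟨U, hU, y, hy, hUy, hint, hmax⟩ := exists_max hg₀ hx₀ hne
  refine ⟨U, hU, y, hy, ?_⟩
  have hUr := finrank_orb hU
  -- a vector of `U` outside of the line
  obtain ⟨u₀, hu₀, hu₀y⟩ : ∃ u₀ ∈ U, u₀ ∉ K ∙ y := by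
    by_contra hcon
    push Not at hcon
    apply hUy
    refine Submodule.eq_of_le_of_finrank_eq (fun z hz => ?_) ?_
    · exact mem_kl.2 (Submodule.mem_span_singleton.1 (hcon z hz))
    · rw [hUr, finrank_kl hy]
  obtain ⟨ψ₀, hψ₀, hle⟩ := Submodule.exists_le_ker_of_notMem hu₀y
  set ψ : V →ₗ[K] K := (ψ₀ u₀)⁻¹ • ψ₀ with hψdef
  have hψy : ψ y = 0 := by
    have : ψ₀ y = 0 := hle (Submodule.mem_span_singleton_self _)
    simp [hψdef, this]
  have hψu : ψ u₀ = 1 := by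
    simp [hψdef, inv_mul_cancel₀ hψ₀]
  set Δ : Submodule F K := U.comap (lk F (K := K) y) with hΔ
  have hmemΔ : ∀ κ : K, κ ∈ Δ ↔ κ • y ∈ U := fun κ => Iff.rfl
  have hΔfin : finrank F Δ = finrank F (U ⊓ kl F K y : Submodule F V) := by
    have h1 : Δ.map (lk F (K := K) y) = U ⊓ kl F K y := by
      rw [hΔ, Submodule.map_comap_eq, inf_comm]
      rfl
    rw [← h1]
    exact (LinearEquiv.finrank_eq (Submodule.equivMapOfInjective _ (lk_injective hy) Δ))
  have hΔtop : Δ ≠ ⊤ := by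
    intro htop
    apply hUy
    symm
    refine Submodule.eq_of_le_of_finrank_eq ?_ (by rw [hUr, finrank_kl hy])
    rintro z ⟨κ, rfl⟩
    have : κ ∈ Δ := by rw [htop]; trivial
    exact this
  have hΔbot : ∃ κ ∈ Δ, κ ≠ 0 := by
    obtain ⟨z, ⟨hz1, hz2⟩, hz0⟩ := (Submodule.ne_bot_iff _).1 hint
    obtain ⟨κ, rfl⟩ := mem_kl.1 hz2
    refine ⟨κ, hz1, ?_⟩
    rintro rfl
    exact hz0 (zero_smul _ _)
  -- the dichotomy
  have hdich : ∀ lam : K, (∀ z ∈ U, ψ z * lam ∈ Δ) ∨ (∀ z ∈ U, ψ z * lam ∈ Δ → z ∈ kl F K y) := by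
    intro lam
    obtain ⟨g, hg, hgz⟩ := h.trans (lam • y) ψ (by rw [map_smul, hψy, smul_zero])
    have hgz' : ∀ z, g z = z + (ψ z * lam) • y := by
      intro z
      rw [hgz]
      simp [smul_smul]
    by_cases hgU : U.map (g : V →ₗ[F] V) = U
    · left
      intro z hz
      rw [hmemΔ]
      have h1 : g z ∈ U := by
        rw [← hgU]
        exact ⟨z, hz, rfl⟩
      rw [hgz'] at h1
      exact (Submodule.add_mem_iff_right U hz).1 h1
    · right
      have h1 := hmax _ (map_mem_orb hU hg) _ hU hgU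
      let ρ : V →ₗ[F] K := (lam • ψ).restrictScalars F
      have hρ : ∀ z, ρ z = ψ z * lam := fun z => by
        change lam * ψ z = _
        rw [mul_comm]
      let G : Submodule F V := U ⊓ Δ.comap ρ
      have hGle : G.map (g : V →ₗ[F] V) ≤ U.map (g : V →ₗ[F] V) ⊓ U := by
        rintro _ ⟨z, ⟨hz1, hz2⟩, rfl⟩
        refine ⟨⟨z, hz1, rfl⟩, ?_⟩
        change g z ∈ U
        rw [hgz']
        refine U.add_mem hz1 ?_
        have h3 : ρ z ∈ Δ := hz2
        rw [hρ] at h3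
        exact h3
      have hGfin : finrank F G ≤ finrank F (U ⊓ kl F K y : Submodule F V) := by
        rw [← LinearEquiv.finrank_map_eq g G]
        exact (Submodule.finrank_mono hGle).trans h1
      have hDG : U ⊓ kl F K y ≤ G := by
        rintro z ⟨hz1, hz2⟩
        refine ⟨hz1, ?_⟩
        obtain ⟨κ, rfl⟩ := mem_kl.1 hz2
        change ρ (κ • y) ∈ Δ
        rw [hρ, map_smul, hψy, smul_zero, zero_mul]
        exact Δ.zero_mem
      have hEq : U ⊓ kl F K y = G := Submodule.eq_of_le_of_finrank_le hDG hGfin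
      intro z hz hzl
      have h3 : z ∈ G := ⟨hz, by
        change ρ z ∈ Δ
        rw [hρ]
        exact hzl⟩
      rw [← hEq] at h3
      exact h3.2
  have hu₀kl : u₀ ∉ kl F K y := fun hmem => hu₀y (Submodule.mem_span_singleton.2 (mem_kl.1 hmem))
  -- `ψ(U) Δ ⊆ Δ`
  have hmulΔ : ∀ z ∈ U, ∀ lam ∈ Δ, ψ z * lam ∈ Δ := by
    intro z hz lam hlam
    by_cases hl0 : lam = 0
    · rw [hl0, mul_zero]; exact Δ.zero_mem
    rcases hdich lam with h1 | h1
    · exact h1 z hz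
    · exact absurd (h1 u₀ hu₀ (by rwa [hψu, one_mul])) hu₀kl
  let R₀ : Subalgebra F K :=
    { carrier := {κ | ∀ lam ∈ Δ, κ * lam ∈ Δ}
      mul_mem' := by
        intro a b ha hb lam hlam
        rw [mul_assoc]
        exact ha _ (hb _ hlam)
      add_mem' := by
        intro a b ha hb lam hlam
        rw [add_mul]
        exact Δ.add_mem (ha _ hlam) (hb _ hlam)
      algebraMap_mem' := by
        intro c lam hlam
        rw [← Algebra.smul_def]
        exact Δ.smul_mem _ hlam }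
  have hR₀ : R₀ = ⊥ := by
    have := Subalgebra.isSimpleOrder_of_finrank_prime F K hr
    rcases this.eq_bot_or_eq_top R₀ with h1 | h1
    · exact h1
    · exfalso
      apply hΔtop
      obtain ⟨δ, hδ, hδ0⟩ := hΔbot
      rw [eq_top_iff]
      intro κ _
      have h2 : κ * δ⁻¹ ∈ R₀ := by rw [h1]; trivial
      have h3 := h2 δ hδ
      rwa [mul_assoc, inv_mul_cancel₀ hδ0, mul_one] at h3
  have hψF : ∀ z ∈ U, ∃ c : F, ψ z = algebraMap F K c := by
    intro z hz
    have h1 : ψ z ∈ R₀ := fun lam hlam => hmulΔ z hz lam hlam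
    rw [hR₀, Algebra.mem_bot] at h1
    obtain ⟨c, hc⟩ := h1
    exact ⟨c, hc.symm⟩
  obtain ⟨κ₁, hκ₁⟩ : ∃ κ₁, κ₁ ∉ Δ := by
    by_contra hcon
    push Not at hcon
    exact hΔtop (eq_top_iff.2 fun κ _ => hcon κ)
  have hker : ∀ z ∈ U, ψ z = 0 → z ∈ kl F K y := by
    rcases hdich κ₁ with h1 | h1
    · exact absurd (by simpa [hψu] using h1 u₀ hu₀) hκ₁
    · intro z hz hz0
      exact h1 z hz (by rw [hz0, zero_mul]; exact Δ.zero_mem)
  refine ⟨ψ, hψy, ⟨u₀, hu₀, hψu⟩, hψF, fun z hz hz0 => mem_kl.1 (hker z hz hz0), ?_, ?_⟩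
  · obtain ⟨κ, hκ, hκ0⟩ := hΔbot
    exact ⟨κ, hκ0, hκ⟩
  · -- codimension one
    refine ⟨κ₁, ?_⟩
    have hfin : finrank F K ≤ finrank F Δ + 1 := by
      rw [← hUr, hΔfin]
      let f : U →ₗ[F] K := (ψ.restrictScalars F) ∘ₗ U.subtype
      have h1 := LinearMap.finrank_range_add_finrank_ker f
      have h2 : finrank F (LinearMap.range f) ≤ 1 := by
        have h3 : LinearMap.range f ≤ F ∙ (1 : K) := by
          rintro _ ⟨z, rfl⟩
          obtain ⟨c, hc⟩ := hψF z z.2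
          rw [Submodule.mem_span_singleton]
          exact ⟨c, by rw [← Algebra.algebraMap_eq_smul_one, ← hc]; rfl⟩
        exact (Submodule.finrank_mono h3).trans (finrank_span_singleton (K := F) (one_ne_zero (α := K))).le
      have h4 : finrank F (LinearMap.ker f) ≤ finrank F (U ⊓ kl F K y : Submodule F V) := by
        rw [← LinearMap.finrank_range_of_inj (f := U.subtype ∘ₗ (LinearMap.ker f).subtype)
          (by exact (Subtype.val_injective).comp (Subtype.val_injective))]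
        refine Submodule.finrank_mono ?_
        rintro _ ⟨z, rfl⟩
        exact ⟨(z : U).2, hker _ (z : U).2 z.2⟩
      omega
    have hsup : Δ ⊔ F ∙ κ₁ = ⊤ := by
      apply Submodule.eq_top_of_finrank_eq
      apply le_antisymm (Submodule.finrank_le _)
      have h1 : Δ < Δ ⊔ F ∙ κ₁ := by
        refine lt_of_le_of_ne le_sup_left fun heq => hκ₁ ?_
        rw [heq]
        exact Submodule.mem_sup_right (Submodule.mem_span_singleton_self _)
      have h2 := Submodule.finrank_lt_finrank_of_lt h1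
      omega
    intro κ
    have h1 : κ ∈ Δ ⊔ F ∙ κ₁ := by rw [hsup]; trivial
    obtain ⟨δ, hδ, w, hw, hsum⟩ := Submodule.mem_sup.1 h1
    obtain ⟨c, rfl⟩ := Submodule.mem_span_singleton.1 hw
    exact ⟨δ, hδ, c, hsum.symm⟩

/-- If `dim_K V ≥ 3` we get a transvection. -/
theorem ExtData.exists_tv_of_three (h : ExtData F K L) [Finite K] [FiniteDimensional K V]
    (hr : (finrank F K).Prime) (hm : 3 ≤ finrank K V)
    {g₀ : V ≃ₗ[F] V} (hg₀ : g₀ ∈ L) {x₀ : V} (hx₀ : x₀ ≠ 0)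
    (hne : ∀ y : V, y ≠ 0 → (kl F K x₀).map (g₀ : V →ₗ[F] V) ≠ kl F K y) :
    ∃ (x : V) (φ : V →ₗ[F] F), x ≠ 0 ∧ φ ≠ 0 ∧ Tv L x φ := by
  classical
  have : Finite F := Finite.of_injective _ (algebraMap F K).injective
  have : FiniteDimensional F K := inferInstance
  have : FiniteDimensional F V := FiniteDimensional.trans F K V
  obtain ⟨U, ⟨g, hg, v, hv, rfl⟩, y, hy, ψ, hψy, ⟨u₀, hu₀, hψu₀⟩, hψF, -, ⟨κ₀, hκ₀, hκ₀U⟩, κ₁, hκ₁⟩ :=
    h.exists_special hr hg₀ hx₀ hne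
  -- a `K`-functional killing `v` and `g⁻¹ (κ₁ y)`
  set w : V := g.symm (κ₁ • y) with hw
  obtain ⟨χ, hχ0, hχv, hχw⟩ : ∃ χ : V →ₗ[K] K, χ ≠ 0 ∧ χ v = 0 ∧ χ w = 0 := by
    have h1 : Submodule.span K ({v, w} : Set V) < ⊤ := by
      refine lt_top_iff_ne_top.2 fun htop => ?_
      have h2 := finrank_span_le_card (R := K) ({v, w} : Set V)
      rw [htop, finrank_top] at h2
      have h3 : ({v, w} : Set V).toFinset.card ≤ 2 := by
        have : ({v, w} : Set V).toFinset = ({v, w} : Finset V) := by ext; simp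
        rw [this]
        exact Finset.card_le_two
      omega
    obtain ⟨χ, hχ0, hle⟩ := Submodule.exists_le_ker_of_lt_top _ h1
    exact ⟨χ, hχ0, hle (Submodule.subset_span (by simp)), hle (Submodule.subset_span (by simp))⟩
  -- the two unipotent elements
  have hα : U1 L ((ψ.smulRight (κ₀ • y)).restrictScalars F) :=
    h.trans _ _ (by rw [map_smul, hψy, smul_zero])
  have hβ' : U1 L ((χ.smulRight v).restrictScalars F) := h.trans _ _ hχv
  have hβ := hβ'.conj hg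
  set α : V →ₗ[F] V := (ψ.smulRight (κ₀ • y)).restrictScalars F with hαd
  set β : V →ₗ[F] V := (g : V →ₗ[F] V) ∘ₗ ((χ.smulRight v).restrictScalars F) ∘ₗ
    (g.symm : V →ₗ[F] V) with hβd
  have hαa : ∀ z, α z = ψ z • κ₀ • y := fun z => rfl
  have hβa : ∀ z, β z = g (χ (g.symm z) • v) := fun z => rfl
  have hβU : ∀ z ∈ (kl F K v).map (g : V →ₗ[F] V), β z = 0 := by
    rintro _ ⟨_, ⟨κ, rfl⟩, rfl⟩
    rw [hβa, LinearEquiv.coe_coe, LinearEquiv.symm_apply_apply, lk_apply, LinearMap.map_smul χ, hχv,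
      smul_zero, zero_smul, map_zero]
  have hβy : ∀ κ : K, β (κ • y) = 0 := by
    intro κ
    obtain ⟨δ, hδ, c, rfl⟩ := hκ₁ κ
    rw [add_smul, map_add, hβU _ hδ, zero_add, smul_assoc, map_smul, hβa, ← hw, hχw, zero_smul,
      map_zero, smul_zero]
  have hβmem : ∀ z, β z ∈ (kl F K v).map (g : V →ₗ[F] V) := fun z =>
    ⟨_, mem_kl.2 ⟨χ (g.symm z), rfl⟩, rfl⟩
  have hcomm : U1 L (α ∘ₗ β) := by
    refine hα.comm hβ ?_ ?_ ?_
    · ext z
      simp only [LinearMap.comp_apply, hαa, LinearMap.zero_apply, map_smul, hψy, smul_zero,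
        zero_smul]
    · ext z
      simp only [LinearMap.comp_apply, LinearMap.zero_apply]
      exact hβU _ (hβmem z)
    · ext z
      simp only [LinearMap.comp_apply, hαa, LinearMap.zero_apply, smul_smul]
      exact hβy _
  -- a left inverse of `F → K`
  obtain ⟨π, hπ⟩ : ∃ π : K →ₗ[F] F, ∀ c : F, π (algebraMap F K c) = c := by
    obtain ⟨π, hπ⟩ := (Algebra.linearMap F K).exists_leftInverse_of_injective
      (LinearMap.ker_eq_bot.2 (algebraMap F K).injective)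
    exact ⟨π, fun c => LinearMap.congr_fun hπ c⟩
  refine ⟨κ₀ • y, π ∘ₗ (ψ.restrictScalars F) ∘ₗ β, smul_ne_zero hκ₀ hy, ?_, ?_, ?_⟩
  · intro h0
    obtain ⟨_, ⟨κ, rfl⟩, hu⟩ := hu₀
    obtain ⟨z, hz⟩ : ∃ z, χ z = κ := by
      obtain ⟨z', hz'⟩ : ∃ z', χ z' ≠ 0 := by
        by_contra hcon
        push Not at hcon
        exact hχ0 (LinearMap.ext hcon)
      refine ⟨(κ * (χ z')⁻¹) • z', ?_⟩
      rw [map_smul, smul_eq_mul, mul_assoc, inv_mul_cancel₀ hz', mul_one]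
    have h1 := LinearMap.congr_fun h0 (g z)
    have h2 : β (g z) = u₀ := by
      rw [hβa, LinearEquiv.symm_apply_apply, hz, ← hu]
      rfl
    simp only [LinearMap.comp_apply, h2, LinearMap.restrictScalars_apply, hψu₀,
      LinearMap.zero_apply] at h1
    have h3 := hπ 1
    rw [map_one, h1] at h3
    exact zero_ne_one h3
  · simp only [LinearMap.comp_apply, hβy, map_zero]
  · obtain ⟨k, hk, hkz⟩ := hcomm
    refine ⟨k, hk, fun z => ?_⟩
    rw [hkz]
    congr 1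
    simp only [LinearMap.comp_apply, hαa, LinearMap.restrictScalars_apply]
    obtain ⟨c, hc⟩ := hψF _ (hβmem z)
    rw [hc, hπ, algebraMap_smul]

end Ext

end Cfsg.Agent.H923
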