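import Mathlib
import Cfsg.Agent.H923.ExtTwo

/-!
Overgroups of `SL_m(K)` in `GL_F(V)`, `K/F` of prime degree: existence of a transvection, `m ≥ 2`,
`(|F|, |K : F|) ≠ (2, 2)`.
-/

set_option autoImplicit false

namespace Cfsg.Agent.H923

open Module

section Ring

variable {F K : Type*} [Field F] [Field K] [Algebra F K]

/-- A ring of `F`-endomorphisms of `K` (prime degree) containing `K` and some non-`K`-linear map is
everything. -/
theorem subring_eq_top [FiniteDimensional F K] [Finite K] (hr : (finrank F K).Prime)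
    (R : Subring (Module.End F K)) (hK : ∀ κ : K, LinearMap.mulLeft F κ ∈ R)
    (hne : ∃ ρ ∈ R, ∃ κ x : K, ρ (κ * x) ≠ κ * ρ x) : R = ⊤ := by
  classical
  -- `K` is a simple `R`-module
  have hsmul : ∀ (ρ : R) (x : K), ρ • x = (ρ : Module.End F K) x := fun _ _ => rfl
  have hsimple : IsSimpleModule R K := by
    rw [isSimpleModule_iff]
    refine { toNontrivial := ⟨⊥, ⊤, ?_⟩, eq_bot_or_eq_top := ?_ }
    · intro h
      have : (1 : K) ∈ (⊥ : Submodule R K) := by rw [h]; trivial
      exact one_ne_zero ((Submodule.mem_bot R).1 this)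
    · intro N
      by_cases hN : N = ⊥
      · exact Or.inl hN
      · right
        obtain ⟨x, hx, hx0⟩ := (Submodule.ne_bot_iff _).1 hN
        rw [eq_top_iff]
        intro z _
        have h1 := N.smul_mem (⟨LinearMap.mulLeft F (z * x⁻¹), hK _⟩ : R) hx
        rw [hsmul] at h1
        simpa [mul_assoc, inv_mul_cancel₀ hx0] using h1
  -- the centraliser
  let C : Subalgebra F K :=
    { carrier := {τ | ∀ ρ ∈ R, ∀ x : K, (ρ : Module.End F K) (τ * x) = τ * ρ x}
      mul_mem' := by
        intro a b ha hb ρ hρ x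
        rw [mul_assoc, ha ρ hρ, hb ρ hρ, mul_assoc]
      add_mem' := by
        intro a b ha hb ρ hρ x
        rw [add_mul, map_add, ha ρ hρ, hb ρ hρ, add_mul]
      algebraMap_mem' := by
        intro c ρ _ x
        rw [← Algebra.smul_def, map_smul, Algebra.smul_def] }
  have hC : C = ⊥ := by
    have := Subalgebra.isSimpleOrder_of_finrank_prime F K hr
    rcases this.eq_bot_or_eq_top C with h1 | h1
    · exact h1
    · exfalso
      obtain ⟨ρ, hρ, κ, x, hne⟩ := hne
      have h2 : κ ∈ C := by rw [h1]; trivial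
      exact hne (h2 ρ hρ x)
  rw [eq_top_iff]
  intro f _
  have := Fintype.ofFinite K
  -- `f` commutes with the centraliser
  let f' : Module.End (Module.End R K) K :=
    { toFun := f
      map_add' := map_add f
      map_smul' := by
        intro T x
        have hT : ∀ z : K, T z = z * T 1 := by
          intro z
          have h1 := T.map_smul (⟨LinearMap.mulLeft F z, hK _⟩ : R) 1
          rw [hsmul, hsmul] at h1
          simpa using h1
        have h2 : T 1 ∈ C := by
          intro ρ hρ z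
          have h1 := T.map_smul (⟨ρ, hρ⟩ : R) z
          rw [hsmul, hsmul] at h1
          change T (ρ z) = ρ (T z) at h1
          rw [hT, hT z] at h1
          rw [mul_comm (T 1) z, ← h1, mul_comm]
        rw [hC, Algebra.mem_bot] at h2
        obtain ⟨c, hc⟩ := h2
        change f (T x) = T (f x)
        rw [hT, hT (f x), ← hc, mul_comm, ← Algebra.smul_def, map_smul, Algebra.smul_def, mul_comm] }
  obtain ⟨r, hr'⟩ := jacobson_density f' (Finset.univ : Finset K)
  have h1 : f = (r : Module.End F K) := by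
    ext z
    exact hr' z (Finset.mem_univ z)
  rw [h1]
  exact r.2

/-- The computation with transvections normalising `K`. -/
theorem transvection_not_normalise [Finite K] (hr : (finrank F K).Prime)
    (hq : ¬ (finrank F K = 2 ∧ Nat.card F = 2)) (f : K →ₗ[F] F) (hf : f ≠ 0) (μ : K) (hμ : μ ≠ 0)
    (hfμ : f μ = 0) :
    ∃ c : F, ∃ κ κ' x : K,
      (κ * (κ' * x - (c * f (κ' * x)) • μ) + (c * f (κ * (κ' * x - (c * f (κ' * x)) • μ))) • μ) ≠
        κ' * (κ * (x - (c * f x) • μ) + (c * f (κ * (x - (c * f x) • μ))) • μ) := by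
  by_contra hcon
  push Not at hcon
  have : Finite F := Finite.of_injective _ (algebraMap F K).injective
  -- (E_c)
  have hE : ∀ c : F, c ≠ 0 → ∀ κ κ' : K,
      algebraMap F K (f (κ * κ' * μ) - c * f (κ * μ) * f (κ' * μ)) =
        f (κ * μ) • κ' + f (κ' * μ) • κ := by
    intro c hc κ κ'
    have h1 := hcon c κ κ' μ
    have e1 : f (κ * (κ' * μ - (c * f (κ' * μ)) • μ)) = f (κ * κ' * μ) - c * f (κ' * μ) * f (κ * μ) := by
      rw [mul_sub, mul_smul_comm, map_sub, map_smul, ← mul_assoc, smul_eq_mul]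
    have e2 : f (κ * (μ - (c * f μ) • μ)) = f (κ * μ) := by
      rw [hfμ, mul_zero, zero_smul, sub_zero]
    rw [e1, e2, hfμ, mul_zero, zero_smul, sub_zero] at h1
    have h2 : (algebraMap F K c) * μ *
        (algebraMap F K (f (κ * κ' * μ) - c * f (κ * μ) * f (κ' * μ)) -
          (f (κ * μ) • κ' + f (κ' * μ) • κ)) = 0 := by
      simp only [Algebra.smul_def, map_sub, map_mul] at h1 ⊢
      linear_combination h1
    rcases mul_eq_zero.1 h2 with h3 | h3
    · rcases mul_eq_zero.1 h3 with h4 | h4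
      · exact absurd ((map_eq_zero _).1 h4) hc
      · exact absurd h4 hμ
    · exact sub_eq_zero.1 h3
  obtain ⟨κ₀, hκ₀⟩ : ∃ κ₀ : K, f (κ₀ * μ) ≠ 0 := by
    by_contra hall
    push Not at hall
    apply hf
    ext z
    have := hall (z * μ⁻¹)
    rwa [mul_assoc, inv_mul_cancel₀ hμ, mul_one] at this
  by_cases hF : ∃ c : F, c ≠ 0 ∧ c ≠ 1
  · obtain ⟨c, hc0, hc1⟩ := hF
    have h1 := hE c hc0 κ₀ κ₀
    have h2 := hE 1 one_ne_zero κ₀ κ₀
    rw [← h2] at h1
    have h3 := (algebraMap F K).injective h1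
    have h4 : (1 - c) * (f (κ₀ * μ) * f (κ₀ * μ)) = 0 := by linear_combination h3
    rcases mul_eq_zero.1 h4 with h5 | h5
    · exact hc1 (sub_eq_zero.1 h5).symm
    · exact hκ₀ (mul_self_eq_zero.1 h5)
  · push Not at hF
    have hF2 : Nat.card F = 2 := by
      have : Fintype F := Fintype.ofFinite F
      classical
      rw [Nat.card_eq_fintype_card]
      have h1 : (Finset.univ : Finset F) = {0, 1} := by
        ext c
        simp only [Finset.mem_univ, Finset.mem_insert, Finset.mem_singleton, true_iff]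
        by_cases hc : c = 0
        · exact Or.inl hc
        · exact Or.inr (hF c hc)
      rw [← Finset.card_univ, h1, Finset.card_pair zero_ne_one]
    have hr3 : 3 ≤ finrank F K := by
      have h2 := hr.two_le
      by_contra hlt
      exact hq ⟨by omega, hF2⟩
    -- an element outside of `F` in the kernel
    obtain ⟨κ', hκ'f, hκ'⟩ : ∃ κ' : K, f (κ' * μ) = 0 ∧ κ' ∉ (⊥ : Subalgebra F K) := by
      by_contra hall
      push Not at hall
      let f1 : K →ₗ[F] F := f ∘ₗ LinearMap.mulRight F μ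
      have h1 := LinearMap.finrank_range_add_finrank_ker f1
      have h2 : finrank F (LinearMap.range f1) ≤ 1 := by
        have := Submodule.finrank_le (LinearMap.range f1)
        rwa [finrank_self] at this
      have h3 : finrank F (LinearMap.ker f1) ≤ 1 := by
        have h4 : LinearMap.ker f1 ≤ Subalgebra.toSubmodule (⊥ : Subalgebra F K) := fun z hz =>
          hall z hz
        have h5 := Submodule.finrank_mono h4
        rwa [Subalgebra.finrank_toSubmodule, Subalgebra.finrank_bot] at h5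
      omega
    have h1 := hE 1 one_ne_zero κ₀ κ'
    rw [hκ'f, mul_zero, sub_zero, zero_smul, add_zero] at h1
    apply hκ'
    rw [Algebra.mem_bot]
    refine ⟨(f (κ₀ * μ))⁻¹ * f (κ₀ * κ' * μ), ?_⟩
    rw [map_mul, h1, Algebra.smul_def, ← mul_assoc, ← map_mul, inv_mul_cancel₀ hκ₀, map_one, one_mul]

end Ring

section Ext

variable {F K V : Type*} [Field F] [Field K] [Algebra F K] [AddCommGroup V] [Module F V] [Module K V]
  [IsScalarTower F K V] {L : Subgroup (V ≃ₗ[F] V)}

/-- Existence of a transvection. -/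
theorem ExtData.exists_tv (h : ExtData F K L) [Finite K] [FiniteDimensional K V]
    (hr : (finrank F K).Prime) (hm : 2 ≤ finrank K V)
    (hq : ¬ (finrank F K = 2 ∧ Nat.card F = 2))
    {g₀ : V ≃ₗ[F] V} (hg₀ : g₀ ∈ L) {x₀ : V} (hx₀ : x₀ ≠ 0)
    (hne : ∀ y : V, y ≠ 0 → (kl F K x₀).map (g₀ : V →ₗ[F] V) ≠ kl F K y) :
    ∃ (x : V) (φ : V →ₗ[F] F), x ≠ 0 ∧ φ ≠ 0 ∧ Tv L x φ := by
  classical
  have : Finite F := Finite.of_injective _ (algebraMap F K).injective
  have : FiniteDimensional F K := inferInstance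
  have : FiniteDimensional F V := FiniteDimensional.trans F K V
  obtain ⟨U, ⟨g, hg, v, hv, rfl⟩, y, hy, ψ, hψy, ⟨u₀, hu₀, hψu₀⟩, hψF, -, ⟨κ₀, hκ₀, hκ₀U⟩, -⟩ :=
    h.exists_special hr hg₀ hx₀ hne
  obtain ⟨_, ⟨μ, rfl⟩, hμ⟩ := hκ₀U
  rw [lk_apply, LinearEquiv.coe_coe] at hμ
  -- a left inverse of `F → K`
  obtain ⟨π, hπ⟩ : ∃ π : K →ₗ[F] F, ∀ c : F, π (algebraMap F K c) = c := by
    obtain ⟨π, hπ⟩ := (Algebra.linearMap F K).exists_leftInverse_of_injective
      (LinearMap.ker_eq_bot.2 (algebraMap F K).injective)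
    exact ⟨π, fun c => LinearMap.congr_fun hπ c⟩
  let f : K →ₗ[F] F := π ∘ₗ (ψ.restrictScalars F) ∘ₗ (g : V →ₗ[F] V) ∘ₗ lk F v
  have hf : ∀ κ : K, ψ (g (κ • v)) = algebraMap F K (f κ) := by
    intro κ
    obtain ⟨c, hc⟩ := hψF (g (κ • v)) ⟨_, ⟨κ, rfl⟩, rfl⟩
    change _ = algebraMap F K (π (ψ (g (κ • v))))
    rw [hc, hπ]
  have hμ0 : μ ≠ 0 := by
    rintro rfl
    rw [zero_smul, map_zero] at hμ
    exact smul_ne_zero hκ₀ hy hμ.symm
  have hfμ : f μ = 0 := by
    apply (algebraMap F K).injective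
    rw [← hf, hμ, map_smul, hψy, smul_zero, map_zero]
  have hf0 : f ≠ 0 := by
    obtain ⟨_, ⟨κ, rfl⟩, hκ⟩ := hu₀
    intro h0
    have h1 := hf κ
    rw [lk_apply, LinearEquiv.coe_coe] at hκ
    rw [hκ, hψu₀, h0, LinearMap.zero_apply, map_zero] at h1
    exact one_ne_zero h1
  -- the elements `k c` of `L` stabilising the line of `v`
  have hk : ∀ c : F, ∃ k ∈ L, ∀ κ : K, k (κ • v) = (κ + (c * f κ) • μ) • v := by
    intro c
    obtain ⟨a, ha, haz⟩ := h.trans ((algebraMap F K c * κ₀) • y) ψ (by rw [map_smul, hψy, smul_zero])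
    refine ⟨g⁻¹ * a * g, L.mul_mem (L.mul_mem (L.inv_mem hg) ha) hg, fun κ => ?_⟩
    rw [LinearEquiv.mul_apply, LinearEquiv.mul_apply, haz]
    have h1 : ((ψ.smulRight ((algebraMap F K c * κ₀) • y)).restrictScalars F) (g (κ • v)) =
        g (((c * f κ) • μ) • v) := by
      change ψ (g (κ • v)) • (algebraMap F K c * κ₀) • y = _
      rw [hf, smul_assoc, map_smul, hμ, mul_smul, mul_smul, algebraMap_smul, algebraMap_smul,
        smul_comm]
    rw [h1, ← map_add, ← add_smul]
    change g⁻¹ (g _) = _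
    rw [← LinearEquiv.mul_apply, inv_mul_cancel, LinearEquiv.coe_one, id]
  -- the maps `γ`
  let W : Set (V →ₗ[F] K) := {γ | (∀ κ : K, γ (κ • v) = 0) ∧ U1 L (lk F v ∘ₗ γ)}
  have hWadd : ∀ γ₁ ∈ W, ∀ γ₂ ∈ W, γ₁ + γ₂ ∈ W := by
    rintro γ₁ ⟨h1, h1'⟩ γ₂ ⟨h2, h2'⟩
    refine ⟨fun κ => by rw [LinearMap.add_apply, h1, h2, add_zero], ?_⟩
    rw [LinearMap.comp_add]
    refine h1'.add h2' ?_
    ext z
    simp only [LinearMap.comp_apply, lk_apply, h1, zero_smul, LinearMap.zero_apply]
  have hWneg : ∀ γ ∈ W, -γ ∈ W := by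
    rintro γ ⟨h1, h1'⟩
    refine ⟨fun κ => by rw [LinearMap.neg_apply, h1, neg_zero], ?_⟩
    rw [LinearMap.comp_neg]
    refine h1'.neg ?_
    ext z
    simp only [LinearMap.comp_apply, lk_apply, h1, zero_smul, LinearMap.zero_apply]
  let R : Subring (Module.End F K) :=
    { carrier := {ρ | ∀ γ ∈ W, ρ ∘ₗ γ ∈ W}
      mul_mem' := by
        intro a b ha hb γ hγ
        have := ha _ (hb _ hγ)
        rwa [← LinearMap.comp_assoc] at this
      one_mem' := by
        intro γ hγ
        exact hγ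
      add_mem' := by
        intro a b ha hb γ hγ
        rw [LinearMap.add_comp]
        exact hWadd _ (ha _ hγ) _ (hb _ hγ)
      zero_mem' := by
        intro γ hγ
        refine ⟨fun κ => rfl, ?_⟩
        convert U1.zero (L := L) using 1
        ext z
        simp
      neg_mem' := by
        intro a ha γ hγ
        rw [LinearMap.neg_comp]
        exact hWneg _ (ha _ hγ) }
  have hR : ∀ ρ : Module.End F K, ρ ∈ R ↔ ∀ γ ∈ W, ρ ∘ₗ γ ∈ W := fun ρ => Iff.rfl
  -- conjugation by an element stabilising the line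
  have hWconj : ∀ k ∈ L, ∀ s t : K →ₗ[F] K, (∀ κ : K, k (κ • v) = s κ • v) →
      (∀ κ : K, k.symm (κ • v) = t κ • v) → ∀ γ ∈ W, s ∘ₗ γ ∘ₗ (k.symm : V →ₗ[F] V) ∈ W := by
    rintro k hk s t hs ht γ ⟨h1, h2⟩
    refine ⟨fun κ => ?_, ?_⟩
    · simp only [LinearMap.comp_apply, LinearEquiv.coe_coe, ht, h1, map_zero]
    · convert h2.conj hk using 1
      ext z
      simp only [LinearMap.comp_apply, LinearEquiv.coe_coe, lk_apply, hs]
  -- a functional with value one at `v`
  obtain ⟨ψv, hψv⟩ : ∃ ψv : V →ₗ[K] K, ψv v = 1 := by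
    obtain ⟨χ, hχ, -⟩ := Submodule.exists_le_ker_of_notMem (K := K) (V := V) (p := ⊥) (v := v)
      (by simpa using hv)
    exact ⟨(χ v)⁻¹ • χ, by simp [inv_mul_cancel₀ hχ]⟩
  have hRK : ∀ κ : K, LinearMap.mulLeft F κ ∈ R := by
    let A : AddSubgroup K :=
      { carrier := {κ | LinearMap.mulLeft F κ ∈ R}
        add_mem' := by
          intro a b ha hb
          have h1 := R.add_mem ha hb
          change LinearMap.mulLeft F (a + b) ∈ R
          convert h1 using 1
          ext z
          simp [add_mul]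
        zero_mem' := by
          change LinearMap.mulLeft F 0 ∈ R
          convert R.zero_mem using 1
          ext z
          simp
        neg_mem' := by
          intro a ha
          have h1 := R.neg_mem ha
          change LinearMap.mulLeft F (-a) ∈ R
          convert h1 using 1
          ext z
          simp }
    have hA : A = ⊤ := by
      refine eq_top_of_norm_one (F := F) hr.two_le A ?_ ⟨1, ?_, one_ne_zero⟩
      · intro κ a hκ ha
        have h1 : LinearMap.mulLeft F κ ∈ R := by
          rw [hR]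
          rintro γ ⟨h1, h2⟩
          have hκ0 : κ ≠ 0 := by
            rintro rfl
            rw [Algebra.norm_zero] at hκ
            exact zero_ne_one hκ
          obtain ⟨d, hd, hdz⟩ := h.dil v ψv κ hψv hκ
          have hdz' : ∀ z, d z = z + ((κ - 1) * ψv z) • v := fun z => by
            rw [hdz]; rfl
          have hdv : ∀ κ' : K, d (κ' • v) = (LinearMap.mulLeft F κ κ') • v := by
            intro κ'
            rw [hdz', map_smul, hψv, ← add_smul]
            congr 1
            simp only [smul_eq_mul, LinearMap.mulLeft_apply]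
            ring
          have hdsymm : ∀ z, ∃ κ' : K, d.symm z = z + κ' • v := by
            intro z
            refine ⟨(κ⁻¹ - 1) * ψv z, ?_⟩
            rw [LinearEquiv.symm_apply_eq, hdz', map_add, map_smul, hψv, smul_eq_mul, mul_one,
              add_assoc, ← add_smul, left_eq_add]
            convert zero_smul K v using 2
            field_simp
            ring
          have h3 := hWconj d hd (LinearMap.mulLeft F κ) (LinearMap.mulLeft F κ⁻¹) hdv (by
            intro κ'
            rw [LinearEquiv.symm_apply_eq, hdv]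
            simp [mul_inv_cancel_left₀ hκ0]) γ ⟨h1, h2⟩
          convert h3 using 1
          ext z
          obtain ⟨κ', hκ'⟩ := hdsymm z
          simp only [LinearMap.comp_apply, LinearEquiv.coe_coe, hκ', map_add, h1, add_zero]
        have h2 := R.mul_mem h1 ha
        change LinearMap.mulLeft F (κ * a) ∈ R
        convert h2 using 1
        ext z
        simp
      · change LinearMap.mulLeft F 1 ∈ R
        convert R.one_mem using 1
        ext z
        simp
    intro κ
    have : κ ∈ A := by rw [hA]; trivial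
    exact this
  -- `R` is normalised by the transvections
  let s : F → (K →ₗ[F] K) := fun c => LinearMap.id + (c • f).smulRight μ
  have hs : ∀ c κ, s c κ = κ + (c * f κ) • μ := fun c κ => rfl
  have hRs : ∀ (c : F) (ρ : Module.End F K), ρ ∈ R → s c ∘ₗ ρ ∘ₗ s (-c) ∈ R := by
    intro c ρ hρ
    rw [hR]
    intro γ hγ
    obtain ⟨k, hkL, hkv⟩ := hk c
    have hk1 : ∀ κ : K, k (κ • v) = s c κ • v := fun κ => by rw [hkv, hs]
    have hk2 : ∀ κ : K, k.symm (κ • v) = s (-c) κ • v := by
      intro κ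
      have e : f (s (-c) κ) = f κ := by rw [hs, map_add, map_smul, hfμ, smul_zero, add_zero]
      rw [LinearEquiv.symm_apply_eq, hk1]
      congr 1
      rw [hs c (s (-c) κ), e, hs (-c), neg_mul, neg_smul, neg_add_cancel_right]
    have hkinv : k⁻¹ ∈ L := L.inv_mem hkL
    have h1 := hWconj k⁻¹ hkinv (s (-c)) (s c) hk2 hk1 γ hγ
    have h2 := hρ _ h1
    have h3 := hWconj k hkL (s c) (s (-c)) hk1 hk2 _ h2
    convert h3 using 1
    ext z
    simp only [LinearMap.comp_apply, LinearEquiv.coe_coe]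
    congr 4
    change z = k (k.symm z)
    rw [LinearEquiv.apply_symm_apply]
  have hRtop : R = ⊤ := by
    refine subring_eq_top hr R hRK ?_
    obtain ⟨c, κ, κ', x, hx⟩ := transvection_not_normalise hr hq f hf0 μ hμ0 hfμ
    refine ⟨_, hRs c _ (hRK κ), κ', x, ?_⟩
    simp only [LinearMap.comp_apply, hs, LinearMap.mulLeft_apply, neg_mul, neg_smul,
      ← sub_eq_add_neg]
    exact hx
  -- a nonzero element of `W`
  obtain ⟨χ, hχ0, hχv⟩ : ∃ χ : V →ₗ[K] K, χ ≠ 0 ∧ χ v = 0 := by
    have h1 : (K ∙ v) < ⊤ := by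
      refine lt_top_iff_ne_top.2 fun htop => ?_
      have h2 := finrank_span_singleton (K := K) hv
      rw [htop, finrank_top] at h2
      omega
    obtain ⟨χ, hχ0, hle⟩ := Submodule.exists_le_ker_of_lt_top _ h1
    exact ⟨χ, hχ0, hle (Submodule.mem_span_singleton_self _)⟩
  have hχW : χ.restrictScalars F ∈ W := by
    refine ⟨fun κ => ?_, ?_⟩
    · change χ (κ • v) = 0
      rw [map_smul, hχv, smul_zero]
    · exact h.trans v χ hχv
  let ρ : Module.End F K := Algebra.linearMap F K ∘ₗ π
  have h1 : ρ ∈ R := by rw [hRtop]; trivial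
  obtain ⟨h2, h3⟩ := h1 _ hχW
  refine ⟨v, π ∘ₗ (χ.restrictScalars F), hv, ?_, ?_, ?_⟩
  · obtain ⟨z, hz⟩ : ∃ z, χ z ≠ 0 := by
      by_contra hcon
      push Not at hcon
      exact hχ0 (LinearMap.ext hcon)
    intro h0
    have h4 := LinearMap.congr_fun h0 ((χ z)⁻¹ • z)
    have h5 : χ ((χ z)⁻¹ • z) = algebraMap F K 1 := by
      rw [map_smul, smul_eq_mul, inv_mul_cancel₀ hz, map_one]
    simp only [LinearMap.comp_apply, LinearMap.restrictScalars_apply, h5, hπ,
      LinearMap.zero_apply] at h4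
    exact one_ne_zero h4
  · simp only [LinearMap.comp_apply, LinearMap.restrictScalars_apply, hχv, map_zero]
  · obtain ⟨k, hk, hkz⟩ := h3
    refine ⟨k, hk, fun z => ?_⟩
    rw [hkz]
    congr 1
    change (algebraMap F K (π (χ z))) • v = π (χ z) • v
    rw [algebraMap_smul]

end Ext

end Cfsg.Agent.H923
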