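import Mathlib
import Cfsg.Prelude.Def_GeometricClasses
import Cfsg.Agent.H873.Tv
import Cfsg.Agent.H923.Unip

/-!
Bridge between subgroups of `GL ι F` and subgroups of `(ι → F) ≃ₗ[F] (ι → F)`.
-/

set_option autoImplicit false

namespace Cfsg.Agent.H923

open Module Matrix Cfsg.Geo
open scoped Matrix MatrixGroups

variable {ι : Type} [Fintype ι] [DecidableEq ι] {F : Type*} [Field F]

/-- The isomorphism of `GL ι F` with the group of linear automorphisms. -/
noncomputable def glE (ι : Type) [Fintype ι] [DecidableEq ι] (F : Type*) [Field F] :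
    GL ι F ≃* ((ι → F) ≃ₗ[F] (ι → F)) :=
  (Matrix.GeneralLinearGroup.toLin (n := ι) (R := F)).trans
    (LinearMap.GeneralLinearGroup.generalLinearEquiv F (ι → F))

theorem glE_apply (g : GL ι F) (z : ι → F) : glE ι F g z = (g : Matrix ι ι F) *ᵥ z := rfl

/-- The image of a subgroup. -/
noncomputable def toE (L : Subgroup (GL ι F)) : Subgroup ((ι → F) ≃ₗ[F] (ι → F)) :=
  L.map (glE ι F).toMonoidHom

theorem mem_toE {L : Subgroup (GL ι F)} {g : GL ι F} (hg : g ∈ L) : glE ι F g ∈ toE L :=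
  ⟨g, hg, rfl⟩

theorem exists_of_mem_toE {L : Subgroup (GL ι F)} {T : (ι → F) ≃ₗ[F] (ι → F)} (hT : T ∈ toE L) :
    ∃ g ∈ L, glE ι F g = T := hT

theorem toE_mono {L M : Subgroup (GL ι F)} (h : L ≤ M) : toE L ≤ toE M := Subgroup.map_mono h

/-- A linear map of determinant one is in the image of `SL`. -/
theorem exists_gl_of_det {T : (ι → F) →ₗ[F] (ι → F)} {d : F} (hd : d ≠ 0)
    (hT : LinearMap.det T = d) :
    ∃ g : GL ι F, (g : Matrix ι ι F) = LinearMap.toMatrix' T ∧ Matrix.det (g : Matrix ι ι F) = d ∧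
      ∀ z, (g : Matrix ι ι F) *ᵥ z = T z := by
  have h1 : Matrix.det (LinearMap.toMatrix' T) = d := by rw [LinearMap.det_toMatrix', hT]
  refine ⟨Matrix.GeneralLinearGroup.mkOfDetNeZero _ (by rw [h1]; exact hd), rfl, h1, fun z => ?_⟩
  change LinearMap.toMatrix' T *ᵥ z = T z
  rw [LinearMap.toMatrix'_mulVec]

theorem hasTv_of_tv {L : Subgroup (GL ι F)} {a : ι → F} {φ : ι → F}
    (h : Tv (toE L) a (Fintype.linearCombination F φ)) : H873.HasTv L a φ := by
  obtain ⟨h0, T, hT, hTz⟩ := h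
  obtain ⟨g, hg, rfl⟩ := exists_of_mem_toE hT
  have h1 : ∀ z : ι → F, Fintype.linearCombination F φ z = φ ⬝ᵥ z := by
    intro z
    rw [Fintype.linearCombination_apply, dotProduct]
    exact Finset.sum_congr rfl fun i _ => by rw [smul_eq_mul, mul_comm]
  refine ⟨by rw [← h1]; exact h0, g, hg, ?_⟩
  apply Matrix.mulVec_injective
  funext z
  rw [H873.one_add_mulVec, ← h1, ← hTz, glE_apply]

/-- All the transvections: contains `SL`. -/
theorem specialLinear_le_of_tv [Nontrivial ι] {L : Subgroup (GL ι F)}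
    (h : ∀ (a : ι → F) (φ : (ι → F) →ₗ[F] F), φ a = 0 → Tv (toE L) a φ) :
    specialLinear ι F ≤ L := by
  refine H873.specialLinear_le_of_hasTv fun i j hij c => hasTv_of_tv (h _ _ ?_)
  rw [Fintype.linearCombination_apply]
  apply Finset.sum_eq_zero
  intro k _
  by_cases hk : k = j
  · subst hk
    simp [Ne.symm hij]
  · simp [hk]

/-- Transvections in `SL`. -/
theorem tv_specialLinear (a : ι → F) (φ : (ι → F) →ₗ[F] F) (h : φ a = 0) :
    Tv (toE (specialLinear ι F)) a φ := by
  refine ⟨h, ?_⟩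
  have hdet : LinearMap.det (LinearMap.transvection φ a) = 1 := by
    rw [LinearMap.transvection.det, h, add_zero]
  obtain ⟨g, -, hg, hgz⟩ := exists_gl_of_det one_ne_zero hdet
  exact ⟨glE ι F g, mem_toE ((H873.mem_specialLinear_iff g).2 hg), fun z => by
    rw [glE_apply, hgz]; rfl⟩

end Cfsg.Agent.H923
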