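import Mathlib
import Cfsg.Agent.H923.MatBridge
import Cfsg.Agent.H923.ExtThree

/-!
**The normaliser of an extension field of prime degree `r < n` is maximal in `SL_n(q)` and in `GL_n(q)`**
(except possibly `(n, q, r) = (4, 2, 2)`, treated elsewhere).
-/

set_option autoImplicit false
set_option linter.style.haveILetI false

namespace Cfsg.Agent.H923

open Module Matrix Cfsg.Geo
open scoped Matrix MatrixGroups

section Abstract

variable {F K V : Type*} [Field F] [Field K] [Algebra F K] [AddCommGroup V] [Module F V] [Module K V]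
  [IsScalarTower F K V]

/-- An additive map sending each vector to a `K`-multiple is a `K`-scalar. -/
theorem scalar_of_forall (hm : 2 ≤ finrank K V) (T : V → V) (hadd : ∀ x y, T (x + y) = T x + T y)
    (hT : ∀ z : V, ∃ κ : K, T z = κ • z) : ∃ κ : K, ∀ z, T z = κ • z := by
  have hex : ∀ a : V, a ≠ 0 → ∃ w : V, w ∉ K ∙ a := by
    intro a ha
    by_contra hcon
    push Not at hcon
    have h1 : (K ∙ a) = ⊤ := eq_top_iff.2 fun z _ => hcon z
    have h2 := finrank_span_singleton (K := K) ha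
    rw [h1, finrank_top] at h2
    omega
  have key : ∀ a b : V, a ≠ 0 → b ∉ K ∙ a → ∀ κ : K, T a = κ • a → T b = κ • b := by
    intro a b ha hb κ hκ
    obtain ⟨κ', hκ'⟩ := hT b
    obtain ⟨κ'', hκ''⟩ := hT (a + b)
    rw [hadd, hκ, hκ', smul_add] at hκ''
    have h1 : (κ - κ'') • a = (κ'' - κ') • b := by
      rw [sub_smul, sub_smul, sub_eq_sub_iff_add_eq_add, hκ'', add_comm]
    have h2 : κ'' - κ' = 0 := by
      by_contra hne
      apply hb
      have : b = ((κ'' - κ')⁻¹ * (κ - κ'')) • a := by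
        rw [mul_smul, h1, smul_smul, inv_mul_cancel₀ hne, one_smul]
      rw [this]
      exact Submodule.smul_mem _ _ (Submodule.mem_span_singleton_self _)
    rw [h2, zero_smul] at h1
    have h3 : κ - κ'' = 0 := (smul_eq_zero.1 h1).resolve_right ha
    rw [hκ', ← sub_eq_zero.1 h2, ← sub_eq_zero.1 h3]
  have hpos : 0 < finrank K V := by omega
  obtain ⟨a, ha⟩ : ∃ a : V, a ≠ 0 := by
    by_contra hcon
    push Not at hcon
    have : Subsingleton V := ⟨fun x y => by rw [hcon x, hcon y]⟩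
    rw [finrank_zero_of_subsingleton] at hpos
    exact lt_irrefl _ hpos
  obtain ⟨κ, hκ⟩ := hT a
  refine ⟨κ, fun z => ?_⟩
  by_cases hz : z ∈ K ∙ a
  · by_cases hz0 : z = 0
    · obtain ⟨κ', hκ'⟩ := hT 0
      rw [hz0, hκ', smul_zero, smul_zero]
    · obtain ⟨w, hw⟩ := hex a ha
      have hw1 := key a w ha hw κ hκ
      refine key w z ?_ ?_ κ hw1
      · rintro rfl
        exact hw (Submodule.zero_mem _)
      · intro hmem
        obtain ⟨c, hc⟩ := Submodule.mem_span_singleton.1 hmem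
        have hc0 : c ≠ 0 := by
          rintro rfl
          rw [zero_smul] at hc
          exact hz0 hc.symm
        apply hw
        have : w = c⁻¹ • z := by rw [← hc, smul_smul, inv_mul_cancel₀ hc0, one_smul]
        rw [this]
        exact Submodule.smul_mem _ _ hz
  · exact key a z ha hz κ hκ

/-- **Overgroups of the semilinear group**: all the transvections. -/
theorem ExtData.top {L : Subgroup (V ≃ₗ[F] V)} (h : ExtData F K L) [Finite K] [FiniteDimensional K V]
    (hr : (finrank F K).Prime) (hm : 2 ≤ finrank K V)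
    (hq : ¬ (finrank F K = 2 ∧ Nat.card F = 2 ∧ finrank K V = 2))
    {g₀ : V ≃ₗ[F] V} (hg₀ : g₀ ∈ L) {x₀ : V} (hx₀ : x₀ ≠ 0)
    (hne : ∀ y : V, y ≠ 0 → (kl F K x₀).map (g₀ : V →ₗ[F] V) ≠ kl F K y)
    (a : V) (χ : V →ₗ[F] F) (hχ : χ a = 0) : Tv L a χ := by
  obtain ⟨x, φ, hx, hφ, hT⟩ : ∃ (x : V) (φ : V →ₗ[F] F), x ≠ 0 ∧ φ ≠ 0 ∧ Tv L x φ := by
    by_cases h3 : 3 ≤ finrank K V
    · exact h.exists_tv_of_three hr h3 hg₀ hx₀ hne
    · exact h.exists_tv hr hm (fun h2 => hq ⟨h2.1, h2.2, by omega⟩) hg₀ hx₀ hne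
  exact h.all hr.two_le hm hT hx hφ a χ hχ

end Abstract

variable {ι : Type} [Fintype ι] [DecidableEq ι] {F : Type*} [Field F]

/-- The field structure of a field subalgebra. -/
@[reducible] noncomputable def fieldOf [Nonempty ι] {r : ℕ} {K : Subalgebra F (Matrix ι ι F)}
    (hK : IsFieldSubalgebra r K) : Field K :=
  { (inferInstance : Ring K) with
    mul_comm := fun x y => Subtype.ext (hK.comm x x.2 y y.2)
    exists_pair_ne := ⟨0, 1, zero_ne_one⟩
    inv := fun x => by
      classical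
      exact if h : x = 0 then 0 else
        ⟨(hK.inv x x.2 (fun h0 => h (Subtype.ext h0))).choose,
          (hK.inv x x.2 (fun h0 => h (Subtype.ext h0))).choose_spec.1⟩
    mul_inv_cancel := by
      intro x hx
      apply Subtype.ext
      simp only [dif_neg hx]
      exact (hK.inv x x.2 (fun h0 => hx (Subtype.ext h0))).choose_spec.2
    inv_zero := by simp
    nnqsmul := _
    nnqsmul_def := fun _ _ => rfl
    qsmul := _
    qsmul_def := fun _ _ => rfl }

section Data

variable {K : Subalgebra F (Matrix ι ι F)} {r : ℕ}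

/-- `K`-linear automorphisms normalise `K`. -/
theorem mem_normalizer_of_commute {g : GL ι F}
    (hg : ∀ k ∈ K, (g : Matrix ι ι F) * k = k * (g : Matrix ι ι F)) : g ∈ subalgebraNormalizer K := by
  have h1 : ∀ k ∈ K, (g : Matrix ι ι F) * k * ((g⁻¹ : GL ι F) : Matrix ι ι F) = k := by
    intro k hk
    rw [hg k hk, mul_assoc, ← Units.val_mul, mul_inv_cancel, Units.val_one, mul_one]
  intro k
  constructor
  · intro hk
    rw [h1 k hk]
    exact hk
  · intro hk
    have h2 := h1 _ hk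
    have h3 : (g : Matrix ι ι F) * k * ((g⁻¹ : GL ι F) : Matrix ι ι F) = k := by
      have h4 : ((g⁻¹ : GL ι F) : Matrix ι ι F) *
          ((g : Matrix ι ι F) * ((g : Matrix ι ι F) * k * ((g⁻¹ : GL ι F) : Matrix ι ι F)) *
            ((g⁻¹ : GL ι F) : Matrix ι ι F)) * (g : Matrix ι ι F) =
          ((g⁻¹ : GL ι F) : Matrix ι ι F) *
          ((g : Matrix ι ι F) * k * ((g⁻¹ : GL ι F) : Matrix ι ι F)) * (g : Matrix ι ι F) := by
        rw [h2]
      have h5 : ∀ M : Matrix ι ι F, ((g⁻¹ : GL ι F) : Matrix ι ι F) *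
          ((g : Matrix ι ι F) * M * ((g⁻¹ : GL ι F) : Matrix ι ι F)) * (g : Matrix ι ι F) = M := by
        intro M
        simp only [← mul_assoc]
        rw [← Units.val_mul, inv_mul_cancel, Units.val_one, one_mul, mul_assoc, ← Units.val_mul,
          inv_mul_cancel, Units.val_one, mul_one]
      rwa [h5, h5] at h4
    rwa [h3] at hk

/-- The dilations and transvections over `K`, as elements of `GL`. -/
theorem exists_dilatransvection [Nonempty ι] [Finite F] (hK : IsFieldSubalgebra r K) :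
    letI := fieldOf hK
    ∀ (f : (ι → F) →ₗ[K] K) (v : ι → F), 1 + f v ≠ 0 →
      ∃ g ∈ subalgebraNormalizer K, Matrix.det (g : Matrix ι ι F) = Algebra.norm F (1 + f v) ∧
        ∀ z, (g : Matrix ι ι F) *ᵥ z = z + f z • v := by
  letI := fieldOf hK
  intro f v hv
  have hfin : FiniteDimensional F K := inferInstance
  have hfree : Module.Free K (ι → F) := Module.Free.of_divisionRing K (ι → F)
  have h1 : LinearMap.det ((LinearMap.transvection f v).restrictScalars F) =
      Algebra.norm F (1 + f v) := by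
    rw [LinearMap.det_restrictScalars, LinearMap.transvection.det]
  have hn : Algebra.norm F (1 + f v) ≠ 0 := by
    rw [Ne, Algebra.norm_eq_zero_iff]
    exact hv
  obtain ⟨g, -, hdet, hgz⟩ := exists_gl_of_det hn h1
  refine ⟨g, mem_normalizer_of_commute fun k hk => ?_, hdet, hgz⟩
  apply Matrix.mulVec_injective
  funext z
  rw [← Matrix.mulVec_mulVec, ← Matrix.mulVec_mulVec, hgz, hgz]
  exact (LinearMap.transvection f v).map_smul (⟨k, hk⟩ : K) z

theorem finrank_mul [Nonempty ι] (hK : IsFieldSubalgebra r K) :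
    letI := fieldOf hK
    r * finrank K (ι → F) = Fintype.card ι := by
  letI := fieldOf hK
  have hfree : Module.Free K (ι → F) := Module.Free.of_divisionRing K (ι → F)
  rw [← hK.finrank_eq, finrank_mul_finrank, finrank_fintype_fun_eq_card]

/-- The data of the abstract theorem. -/
theorem extData [Nonempty ι] [Finite F] (hK : IsFieldSubalgebra r K) {L : Subgroup (GL ι F)}
    (hL : subalgebraNormalizer K ⊓ specialLinear ι F ≤ L) :
    letI := fieldOf hK
    ExtData F K (toE L) := by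
  letI := fieldOf hK
  have key : ∀ (f : (ι → F) →ₗ[K] K) (v : ι → F), Algebra.norm F (1 + f v) = 1 →
      U1 (toE L) ((f.smulRight v).restrictScalars F) := by
    intro f v hf
    have hne : 1 + f v ≠ 0 := by
      intro h0
      rw [h0, Algebra.norm_zero] at hf
      exact zero_ne_one hf
    obtain ⟨g, hg, hdet, hgz⟩ := exists_dilatransvection hK f v hne
    refine ⟨glE ι F g, mem_toE (hL ⟨hg, (H873.mem_specialLinear_iff g).2 (by rw [hdet, hf])⟩),
      fun z => ?_⟩
    rw [glE_apply, hgz]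
    rfl
  constructor
  · intro v ψ hψ
    exact key ψ v (by rw [hψ, add_zero, map_one])
  · intro y ψ κ hy hκ
    refine key _ y ?_
    rw [LinearMap.smul_apply, hy, smul_eq_mul, mul_one, add_sub_cancel, hκ]

/-- If `L` permutes the `K`-lines it normalises `K`. -/
theorem exists_not_line [Nonempty ι] [Finite F] (hK : IsFieldSubalgebra r K)
    (hlt : r < Fintype.card ι) {L : Subgroup (GL ι F)} (hL : ¬ L ≤ subalgebraNormalizer K) :
    letI := fieldOf hK
    ∃ g₀ ∈ toE L, ∃ x₀ : ι → F, x₀ ≠ 0 ∧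
      ∀ y : ι → F, y ≠ 0 → (kl F K x₀).map (g₀ : (ι → F) →ₗ[F] (ι → F)) ≠ kl F K y := by
  letI := fieldOf hK
  by_contra hcon
  push Not at hcon
  apply hL
  have hm : 2 ≤ finrank K (ι → F) := by
    have h1 := finrank_mul hK
    by_contra hlt'
    have : finrank K (ι → F) ≤ 1 := by omega
    have : r * finrank K (ι → F) ≤ r * 1 := Nat.mul_le_mul_left _ this
    omega
  have key : ∀ g ∈ L, ∀ k ∈ K,
      (g : Matrix ι ι F) * k * ((g⁻¹ : GL ι F) : Matrix ι ι F) ∈ K := by
    intro g hg k hk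
    have hgg : ∀ z : ι → F, (g : Matrix ι ι F) *ᵥ (((g⁻¹ : GL ι F) : Matrix ι ι F) *ᵥ z) = z := by
      intro z
      rw [mulVec_mulVec, ← Units.val_mul, mul_inv_cancel, Units.val_one, one_mulVec]
    obtain ⟨κ, hκ⟩ := scalar_of_forall (K := K) hm
      (fun z => ((g : Matrix ι ι F) * k * ((g⁻¹ : GL ι F) : Matrix ι ι F)) *ᵥ z)
      (fun x y => mulVec_add _ _ _) (by
        intro z
        by_cases hz : z = 0
        · exact ⟨0, by rw [hz, mulVec_zero, smul_zero]⟩
        set x := ((g⁻¹ : GL ι F) : Matrix ι ι F) *ᵥ z with hx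
        have hx0 : x ≠ 0 := by
          intro h0
          apply hz
          rw [← hgg z, ← hx, h0, mulVec_zero]
        obtain ⟨y, hy, hmap⟩ := hcon _ (mem_toE hg) x hx0
        have h1 : z ∈ kl F K y := by
          rw [← hmap]
          exact ⟨x, mem_kl.2 ⟨1, one_smul _ _⟩, hgg z⟩
        have h2 : ((g : Matrix ι ι F) * k * ((g⁻¹ : GL ι F) : Matrix ι ι F)) *ᵥ z ∈ kl F K y := by
          rw [← hmap]
          refine ⟨(⟨k, hk⟩ : K) • x, mem_kl.2 ⟨⟨k, hk⟩, rfl⟩, ?_⟩
          change (g : Matrix ι ι F) *ᵥ (k *ᵥ x) = _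
          rw [← mulVec_mulVec, ← mulVec_mulVec]
        obtain ⟨κ₁, rfl⟩ := mem_kl.1 h1
        obtain ⟨κ₂, hκ₂⟩ := mem_kl.1 h2
        have hκ₁ : κ₁ ≠ 0 := by
          rintro rfl
          exact hz (zero_smul _ _)
        refine ⟨κ₂ * κ₁⁻¹, ?_⟩
        change _ = (κ₂ * κ₁⁻¹) • κ₁ • y
        rw [← hκ₂, smul_smul, mul_assoc, inv_mul_cancel₀ hκ₁, mul_one])
    have h3 : (g : Matrix ι ι F) * k * ((g⁻¹ : GL ι F) : Matrix ι ι F) = (κ : Matrix ι ι F) := by
      apply Matrix.mulVec_injective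
      funext z
      exact hκ z
    rw [h3]
    exact κ.2
  intro g hg k
  constructor
  · exact key g hg k
  · intro hk
    have h1 := key g⁻¹ (L.inv_mem hg) _ hk
    have h2 : ((g⁻¹ : GL ι F) : Matrix ι ι F) *
        ((g : Matrix ι ι F) * k * ((g⁻¹ : GL ι F) : Matrix ι ι F)) *
          (((g⁻¹)⁻¹ : GL ι F) : Matrix ι ι F) = k := by
      rw [inv_inv]
      simp only [← mul_assoc]
      rw [← Units.val_mul, inv_mul_cancel, Units.val_one, one_mul, mul_assoc, ← Units.val_mul,
        inv_mul_cancel, Units.val_one, mul_one]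
    rwa [h2] at h1

/-- **Overgroups of the normaliser of an extension field in `SL_n(q)`.** -/
theorem specialLinear_le_of_ext [Fintype F] (hr : r.Prime) (hK : IsFieldSubalgebra r K)
    (hlt : r < Fintype.card ι) (hq : ¬ (r = 2 ∧ Fintype.card F = 2 ∧ Fintype.card ι = 4))
    {L : Subgroup (GL ι F)} (hL : subalgebraNormalizer K ⊓ specialLinear ι F ≤ L)
    (hne : ¬ L ≤ subalgebraNormalizer K) : specialLinear ι F ≤ L := by
  have : Nonempty ι := Fintype.card_pos_iff.1 (by omega)
  have : Nontrivial ι := Fintype.one_lt_card_iff_nontrivial.1 (by have := hr.two_le; omega)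
  letI := fieldOf hK
  have hfr : finrank F K = r := hK.finrank_eq
  have h1 := finrank_mul hK
  have hm : 2 ≤ finrank K (ι → F) := by
    by_contra hlt'
    have : finrank K (ι → F) ≤ 1 := by omega
    have : r * finrank K (ι → F) ≤ r * 1 := Nat.mul_le_mul_left _ this
    omega
  have hKfin : Finite K := Module.finite_of_finite F
  have hKV : FiniteDimensional K (ι → F) := FiniteDimensional.of_finrank_pos (by omega)
  obtain ⟨g₀, hg₀, x₀, hx₀, hline⟩ := exists_not_line hK hlt hne
  refine specialLinear_le_of_tv fun a φ hφ => ?_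
  refine (extData hK hL).top (by rw [hfr]; exact hr) hm ?_ hg₀ hx₀ hline a φ hφ
  rintro ⟨h2, h3, h4⟩
  rw [hfr] at h2
  exact hq ⟨h2, by rw [← Nat.card_eq_fintype_card]; exact h3, by rw [← h1, h2, h4]⟩

/-- Properness: `SL` does not normalise `K`. -/
theorem not_specialLinear_le [Finite F] (hr : r.Prime) (hK : IsFieldSubalgebra r K)
    (hlt : r < Fintype.card ι) : ¬ specialLinear ι F ≤ subalgebraNormalizer K := by
  have : Nonempty ι := Fintype.card_pos_iff.1 (by omega)
  intro hle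
  letI := fieldOf hK
  have h1 := finrank_mul hK
  have hm : 2 ≤ finrank K (ι → F) := by
    by_contra hlt'
    have : finrank K (ι → F) ≤ 1 := by omega
    have : r * finrank K (ι → F) ≤ r * 1 := Nat.mul_le_mul_left _ this
    omega
  obtain ⟨x, hx⟩ : ∃ x : ι → F, x ≠ 0 := ⟨1, one_ne_zero⟩
  obtain ⟨a, ha⟩ : ∃ a : ι → F, a ∉ K ∙ x := by
    by_contra hcon
    push Not at hcon
    have h1 : (K ∙ x) = ⊤ := eq_top_iff.2 fun z _ => hcon z
    have h2 := finrank_span_singleton (K := K) hx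
    rw [h1, finrank_top] at h2
    omega
  -- a functional with `φ x = 1`, `φ a = 0`
  have hxa : x ∉ F ∙ a := by
    intro hmem
    obtain ⟨c, hc⟩ := Submodule.mem_span_singleton.1 hmem
    have hc0 : c ≠ 0 := by
      rintro rfl
      rw [zero_smul] at hc
      exact hx hc.symm
    apply ha
    have : a = (algebraMap F K c⁻¹) • x := by
      rw [algebraMap_smul, ← hc, smul_smul, inv_mul_cancel₀ hc0, one_smul]
    rw [this]
    exact Submodule.smul_mem _ _ (Submodule.mem_span_singleton_self _)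
  obtain ⟨φ, hφx, hφa⟩ := Submodule.exists_le_ker_of_notMem hxa
  have hφa' : φ a = 0 := hφa (Submodule.mem_span_singleton_self _)
  -- `κ ≠ 0` with `φ (κ x) = 0`
  obtain ⟨κ, hκ0, hκ⟩ : ∃ κ : K, κ ≠ 0 ∧ φ (κ • x) = 0 := by
    have h2 : LinearMap.ker (φ ∘ₗ lk F (K := K) x) ≠ ⊥ := by
      apply LinearMap.ker_ne_bot_of_finrank_lt
      rw [finrank_self]
      have : finrank F K = r := hK.finrank_eq
      rw [this]
      exact hr.one_lt
    obtain ⟨κ, hκ, hκ0⟩ := (Submodule.ne_bot_iff _).1 h2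
    exact ⟨κ, hκ0, hκ⟩
  obtain ⟨-, T, hT, hTz⟩ := tv_specialLinear a φ hφa'
  obtain ⟨g, hg, rfl⟩ := exists_of_mem_toE hT
  have hgN := hle hg
  have hgx : (g : Matrix ι ι F) *ᵥ x = x + φ x • a := hTz x
  have hgκ : (g : Matrix ι ι F) *ᵥ (κ • x) = κ • x := by
    have := hTz (κ • x)
    rw [hκ, zero_smul, add_zero] at this
    exact this
  -- `g κ = κ' g`
  have h3 := (hgN κ).1 κ.2
  have h4 : (g : Matrix ι ι F) *ᵥ (κ • x) =
      (⟨_, h3⟩ : K) • ((g : Matrix ι ι F) *ᵥ x) := by
    change (g : Matrix ι ι F) *ᵥ ((κ : Matrix ι ι F) *ᵥ x) =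
      ((g : Matrix ι ι F) * (κ : Matrix ι ι F) * ((g⁻¹ : GL ι F) : Matrix ι ι F)) *ᵥ
        ((g : Matrix ι ι F) *ᵥ x)
    rw [mulVec_mulVec, mulVec_mulVec, mul_assoc ((g : Matrix ι ι F) * (κ : Matrix ι ι F)),
      ← Units.val_mul, inv_mul_cancel, Units.val_one, mul_one]
  rw [hgκ, hgx] at h4
  set κ' : K := ⟨_, h3⟩ with hκ'
  apply ha
  have hκ'0 : κ' ≠ 0 := by
    intro h0
    rw [h0, zero_smul] at h4
    apply hx
    rw [← one_smul K x, ← inv_mul_cancel₀ hκ0, mul_smul, h4, smul_zero]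
  have h5 : x + φ x • a = (κ'⁻¹ * κ) • x := by
    rw [mul_smul, h4, smul_smul, inv_mul_cancel₀ hκ'0, one_smul]
  have h6 : φ x • a ∈ K ∙ x := by
    have : φ x • a = (κ'⁻¹ * κ) • x - x := by rw [← h5, add_sub_cancel_left]
    rw [this]
    exact Submodule.sub_mem _ (Submodule.smul_mem _ _ (Submodule.mem_span_singleton_self _))
      (Submodule.mem_span_singleton_self _)
  have h7 : a = (algebraMap F K (φ x)⁻¹) • (φ x • a) := by
    rw [algebraMap_smul, smul_smul, inv_mul_cancel₀ hφx, one_smul]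
  rw [h7]
  exact Submodule.smul_mem _ _ h6

/-- **Maximality of the normaliser of an extension field in `SL_n(q)`**, `r < n`,
`(n, q, r) ≠ (4, 2, 2)`. -/
theorem ext_isMaximalIn [Fintype F] (hr : r.Prime) (hK : IsFieldSubalgebra r K)
    (hlt : r < Fintype.card ι) (hq : ¬ (r = 2 ∧ Fintype.card F = 2 ∧ Fintype.card ι = 4)) :
    IsMaximalIn (specialLinear ι F) (subalgebraNormalizer K ⊓ specialLinear ι F) := by
  refine ⟨lt_of_le_of_ne inf_le_right fun h => not_specialLinear_le hr hK hlt ?_, ?_⟩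
  · rw [← h]
    exact inf_le_left
  · intro M hM hMS
    by_cases hle : M ≤ subalgebraNormalizer K
    · exact Or.inl (le_antisymm (le_inf hle hMS) hM)
    · exact Or.inr (le_antisymm hMS (specialLinear_le_of_ext hr hK hlt hq hM hle))

/-- The normaliser contains elements of every determinant. -/
theorem exists_det [Nonempty ι] [Finite F] (hK : IsFieldSubalgebra r K) {d : F} (hd : d ≠ 0) :
    ∃ g ∈ subalgebraNormalizer K, Matrix.det (g : Matrix ι ι F) = d := by
  letI := fieldOf hK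
  have hKfin : Finite K := Module.finite_of_finite F
  obtain ⟨κ, hκ⟩ := FiniteField.norm_surjective F K d
  obtain ⟨x, hx⟩ : ∃ x : ι → F, x ≠ 0 := ⟨1, one_ne_zero⟩
  obtain ⟨ψ, hψ, -⟩ := Submodule.exists_le_ker_of_notMem (K := K) (V := ι → F) (p := ⊥) (v := x)
    (by simpa using hx)
  have hκ0 : κ ≠ 0 := by
    rintro rfl
    rw [Algebra.norm_zero] at hκ
    exact hd hκ.symm
  have h1 : (1 : K) + (((κ - 1) * (ψ x)⁻¹) • ψ) x = κ := by
    rw [LinearMap.smul_apply, smul_eq_mul, mul_assoc, inv_mul_cancel₀ hψ, mul_one, add_sub_cancel]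
  obtain ⟨g, hg, hdet, -⟩ := exists_dilatransvection hK (((κ - 1) * (ψ x)⁻¹) • ψ) x
    (by rw [h1]; exact hκ0)
  exact ⟨g, hg, by rw [hdet, h1, hκ]⟩

/-- **Maximality of the normaliser of an extension field in `GL_n(q)`**. -/
theorem isCoatom_of_isMaximalIn [Finite F] (hr : r.Prime) (hK : IsFieldSubalgebra r K)
    (hlt : r < Fintype.card ι)
    (hmax : IsMaximalIn (specialLinear ι F) (subalgebraNormalizer K ⊓ specialLinear ι F)) :
    IsCoatom (subalgebraNormalizer K) := by
  have : Nonempty ι := Fintype.card_pos_iff.1 (by omega)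
  refine ⟨fun h => not_specialLinear_le hr hK hlt (by rw [h]; exact le_top), ?_⟩
  intro L hL
  have hdet : ∀ g : GL ι F, ∃ n ∈ subalgebraNormalizer K, n⁻¹ * g ∈ specialLinear ι F := by
    intro g
    have hg0 : Matrix.det (g : Matrix ι ι F) ≠ 0 := (Matrix.isUnits_det_units g).ne_zero
    obtain ⟨n, hn, hnd⟩ := exists_det hK hg0
    refine ⟨n, hn, ?_⟩
    change Matrix.GeneralLinearGroup.det (n⁻¹ * g) = 1
    have h1 : Matrix.GeneralLinearGroup.det n = Matrix.GeneralLinearGroup.det g := by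
      ext
      simpa using hnd
    rw [map_mul, map_inv, h1, inv_mul_cancel]
  rcases hmax.2 (L ⊓ specialLinear ι F) (inf_le_inf_right _ hL.le) inf_le_right with h1 | h1
  · exfalso
    refine not_le_of_gt hL fun g hg => ?_
    obtain ⟨n, hn, hng⟩ := hdet g
    have h2 : n⁻¹ * g ∈ L ⊓ specialLinear ι F := ⟨L.mul_mem (L.inv_mem (hL.le hn)) hg, hng⟩
    rw [h1] at h2
    have h3 := Subgroup.mul_mem _ hn h2.1
    rwa [mul_inv_cancel_left] at h3
  · rw [eq_top_iff]
    intro g _
    obtain ⟨n, hn, hng⟩ := hdet g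
    have h2 : n⁻¹ * g ∈ L ⊓ specialLinear ι F := by rw [h1]; exact hng
    have h3 := L.mul_mem (hL.le hn) h2.1
    rwa [mul_inv_cancel_left] at h3

end Data

end Cfsg.Agent.H923
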