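import Mathlib
import Cfsg.Agent.H887.SiegelMethod

/-!
A quadratic form `q` over a finite extension `K / F` of finite fields of odd characteristic and its
trace form `Q v = Tr (q v)`: dictionary between the orthogonal groups of `q` and `Q`.
-/

set_option autoImplicit false
set_option linter.unusedSectionVars false

namespace Cfsg.Agent.H923.KF

open QuadraticMap Module Cfsg.Agent.LieClassical.OrthCore Cfsg.Agent.LieClassical.OrthTrans
  Cfsg.Agent.LieClassical.OrthSimple Cfsg.Agent.ClassicalGeometry.OrthAutBasic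

/-! ### Linear algebra of the trace -/

section Trace

variable {F K : Type*} [Field F] [Field K] [Algebra F K] [Finite K]

theorem finiteF (F K : Type*) [Field F] [Field K] [Algebra F K] [Finite K] : Finite F :=
  Finite.of_injective _ (algebraMap F K).injective

theorem trace_eq_zero {x : K} (h : ∀ c : K, Algebra.trace F K (c * x) = 0) : x = 0 := by
  have : Finite F := finiteF F K
  have : FiniteDimensional F K := inferInstance
  by_contra hx
  apply Algebra.trace_ne_zero F K
  ext z
  have := h (z * x⁻¹)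
  rwa [mul_assoc, inv_mul_cancel₀ hx, mul_one] at this

/-- Functionals are traces. -/
theorem exists_trace_rep (μ : K →ₗ[F] F) : ∃ κ : K, ∀ c, μ c = Algebra.trace F K (κ * c) := by
  have : Finite F := finiteF F K
  have : FiniteDimensional F K := inferInstance
  let Φ : K →ₗ[F] Module.Dual F K := (Algebra.traceForm F K)
  have hinj : Function.Injective Φ := by
    rw [injective_iff_map_eq_zero]
    intro x hx
    apply trace_eq_zero (F := F)
    intro c
    have := LinearMap.congr_fun hx c
    rw [mul_comm]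
    exact this
  have hsurj : Function.Surjective Φ :=
    (LinearMap.injective_iff_surjective_of_finrank_eq_finrank
      (Subspace.dual_finrank_eq (K := F) (V := K)).symm).1 hinj
  obtain ⟨κ, hκ⟩ := hsurj μ
  exact ⟨κ, fun c => by rw [← hκ]; rfl⟩

theorem trace_algEquiv (τ : K ≃ₐ[F] K) (x : K) : Algebra.trace F K (τ x) = Algebra.trace F K x :=
  Algebra.trace_eq_of_algEquiv τ x

/-- Squares generate the field additively. -/
theorem sq_sub_sq (h2 : (2 : K) ≠ 0) (x : K) : ∃ a b : K, x = a ^ 2 - b ^ 2 :=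
  ⟨(x + 1) / 2, (x - 1) / 2, by field_simp; ring⟩

theorem trace_sq_eq_zero (h2 : (2 : K) ≠ 0) {x : K}
    (h : ∀ c : K, Algebra.trace F K (c ^ 2 * x) = 0) : x = 0 := by
  apply trace_eq_zero (F := F)
  intro c
  obtain ⟨a, b, rfl⟩ := sq_sub_sq h2 c
  rw [sub_mul, map_sub, h, h, sub_zero]

/-- A semilinear map determines its automorphism. -/
theorem exists_algEquiv {A B : Type*} [AddCommGroup A] [AddCommGroup B] [Module F A] [Module F B]
    [Module K A] [Module K B] [IsScalarTower F K A] [IsScalarTower F K B] (g : A →ₗ[F] B) {a₀ : A}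
    (h0 : g a₀ ≠ 0) (h : ∀ c : K, ∃ c' : K, ∀ a, g (c • a) = c' • g a) :
    ∃ τ : K ≃ₐ[F] K, ∀ (c : K) (a : A), g (c • a) = τ c • g a := by
  choose t ht using h
  have huniq : ∀ {c c' : K}, c • g a₀ = c' • g a₀ → c = c' := by
    intro c c' hc
    rw [← sub_eq_zero, ← sub_smul] at hc
    exact sub_eq_zero.1 ((smul_eq_zero.1 hc).resolve_right h0)
  let τ : K →ₐ[F] K :=
    { toFun := t
      map_one' := huniq (by rw [← ht, one_smul, one_smul])
      map_mul' := fun c d => huniq (by rw [← ht, mul_smul, ht, ht, ← mul_smul])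
      map_zero' := huniq (by rw [← ht, zero_smul, map_zero, zero_smul])
      map_add' := fun c d => huniq (by rw [← ht, add_smul, map_add, ht, ht, ← add_smul])
      commutes' := fun r => huniq (by rw [← ht, algebraMap_smul, map_smul, algebraMap_smul]) }
  have hbij : Function.Bijective τ :=
    Finite.injective_iff_bijective.1 (RingHom.injective (τ : K →+* K))
  exact ⟨AlgEquiv.ofBijective τ hbij, fun c a => ht c a⟩

end Trace

variable {F K V : Type*} [Field F] [Field K] [Algebra F K] [AddCommGroup V] [Module F V]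
  [Module K V] [IsScalarTower F K V]

/-! ### The normaliser of `K` -/

/-- The normaliser of `K` in the group of `F`-linear automorphisms: the `K`-semilinear maps. -/
def NK (F K V : Type*) [Field F] [Field K] [Algebra F K] [AddCommGroup V] [Module F V]
    [Module K V] [IsScalarTower F K V] : Subgroup (V ≃ₗ[F] V) where
  carrier := {g | ∃ τ : K ≃ₐ[F] K, ∀ (c : K) (v : V), g (c • v) = τ c • g v}
  one_mem' := ⟨AlgEquiv.refl, fun _ _ => rfl⟩
  mul_mem' := by
    rintro a b ⟨τ, hτ⟩ ⟨τ', hτ'⟩
    refine ⟨τ'.trans τ, fun c v => ?_⟩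
    change a (b (c • v)) = τ (τ' c) • a (b v)
    rw [hτ', hτ]
  inv_mem' := by
    rintro a ⟨τ, hτ⟩
    refine ⟨τ.symm, fun c v => ?_⟩
    apply a.injective
    change a (a.symm (c • v)) = a (τ.symm c • a.symm v)
    rw [hτ, AlgEquiv.apply_symm_apply, LinearEquiv.apply_symm_apply, LinearEquiv.apply_symm_apply]

theorem mem_NK {g : V ≃ₗ[F] V} :
    g ∈ NK F K V ↔ ∃ τ : K ≃ₐ[F] K, ∀ (c : K) (v : V), g (c • v) = τ c • g v := Iff.rfl

theorem mem_NK_of_linear {g : V ≃ₗ[F] V} (h : ∀ (c : K) (v : V), g (c • v) = c • g v) :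
    g ∈ NK F K V := ⟨AlgEquiv.refl, h⟩

theorem mem_NK_of_forall [Finite K] {g : V ≃ₗ[F] V}
    (h : ∀ c : K, ∃ c' : K, ∀ v, g (c • v) = c' • g v) : g ∈ NK F K V := by
  by_cases hV : ∃ v : V, v ≠ 0
  · obtain ⟨v, hv⟩ := hV
    have h0 : (g : V →ₗ[F] V) v ≠ 0 := by
      intro h0
      exact hv ((map_eq_zero_iff _ g.injective).1 h0)
    obtain ⟨τ, hτ⟩ := exists_algEquiv (g : V →ₗ[F] V) h0 h
    exact ⟨τ, hτ⟩
  · push Not at hV
    exact ⟨AlgEquiv.refl, fun c v => by rw [hV (g _), hV (g v), smul_zero]⟩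

/-- Restriction of scalars. -/
def res (F : Type*) {K V : Type*} [Field F] [Field K] [Algebra F K] [AddCommGroup V] [Module F V]
    [Module K V] [IsScalarTower F K V] : (V ≃ₗ[K] V) →* (V ≃ₗ[F] V) where
  toFun g := g.restrictScalars F
  map_one' := rfl
  map_mul' _ _ := rfl

@[simp] theorem res_apply (g : V ≃ₗ[K] V) (v : V) : res F g v = g v := rfl

theorem res_injective : Function.Injective (res F : (V ≃ₗ[K] V) →* (V ≃ₗ[F] V)) := by
  intro g h hgh
  ext v
  exact LinearEquiv.congr_fun hgh v

theorem res_mem_NK (g : V ≃ₗ[K] V) : res F g ∈ NK F K V :=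
  mem_NK_of_linear fun c v => g.map_smul c v

/-! ### The trace form -/

variable {q : QuadraticForm K V} {Q : QuadraticForm F V}

/-- `Q` is the trace form of `q`. -/
def IsTr (q : QuadraticForm K V) (Q : QuadraticForm F V) : Prop :=
  ∀ v, Q v = Algebra.trace F K (q v)

theorem IsTr.polar (h : IsTr q Q) (v w : V) : polar Q v w = Algebra.trace F K (polar q v w) := by
  simp only [QuadraticMap.polar, h _, map_sub]

theorem IsTr.res_mem (h : IsTr q Q) {g : V ≃ₗ[K] V} (hg : g ∈ O q) : res F g ∈ O Q := by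
  intro v
  rw [h, h, res_apply, mem_O.1 hg]

theorem IsTr.polar_smul (h : IsTr q Q) (c : K) (v w : V) :
    QuadraticMap.polar Q (c • v) w = Algebra.trace F K (c * QuadraticMap.polar q v w) := by
  rw [h.polar, polar_smul_left, smul_eq_mul]

variable [Finite K]

theorem IsTr.nondeg (h : IsTr q Q) (hQ : Nondeg Q) : Nondeg q := by
  intro x hx
  apply hQ
  intro y
  rw [h.polar, hx, map_zero]

/-- A vector all of whose `K`-multiples are orthogonal to `v`. -/
theorem IsTr.polar_eq_zero (h : IsTr q Q) {u v : V}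
    (huv : ∀ c : K, QuadraticMap.polar Q (c • u) v = 0) : QuadraticMap.polar q u v = 0 := by
  apply trace_eq_zero (F := F)
  intro c
  rw [← h.polar_smul, huv]

theorem IsTr.polar_ext (h : IsTr q Q) {u v w : V}
    (huv : ∀ c : K, QuadraticMap.polar Q (c • u) v = QuadraticMap.polar Q (c • u) w) :
    QuadraticMap.polar q u v = QuadraticMap.polar q u w := by
  rw [← sub_eq_zero, ← polar_sub_right]
  apply h.polar_eq_zero
  intro c
  rw [polar_sub_right, huv, sub_self]

theorem IsTr.sing (h : IsTr q Q) (h2 : (2 : K) ≠ 0) {u : V} (hu : ∀ c : K, Q (c • u) = 0) :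
    q u = 0 := by
  apply trace_sq_eq_zero (F := F) h2
  intro c
  rw [← hu c, h, QuadraticMap.map_smul, smul_eq_mul, pow_two]

theorem IsTr.sing_smul (h : IsTr q Q) {u : V} (hu : q u = 0) (c : K) : Q (c • u) = 0 := by
  rw [h, QuadraticMap.map_smul, hu, smul_zero, map_zero]

/-! ### Geometry over `K` -/

/-- The radical of `u^⊥` is `K u`. -/
theorem mem_line_of_perp_perp (hq : Nondeg q) {u y : V}
    (h : ∀ x, QuadraticMap.polar q u x = 0 → QuadraticMap.polar q x y = 0) : ∃ c : K, y = c • u := by
  by_contra hcon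
  push Not at hcon
  obtain ⟨z, hz1, hz2⟩ := exists_sep hq hcon
  have := h z hz1
  rw [QuadraticMap.polar_comm, hz2] at this
  exact one_ne_zero this

end Cfsg.Agent.H923.KF
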