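import Mathlib
import Cfsg.Agent.H923.KForm

/-!
Squares and unipotent elements of `O Q` are in `E Q` (odd characteristic); the unipotent radical of
a `K`-singular `K`-line.
-/

set_option autoImplicit false
set_option linter.unusedSectionVars false

namespace Cfsg.Agent.H923.KF

open QuadraticMap Module Cfsg.Agent.LieClassical.OrthCore Cfsg.Agent.LieClassical.OrthTrans
  Cfsg.Agent.LieClassical.OrthSimple Cfsg.Agent.ClassicalGeometry.OrthAutBasic
open scoped commutatorElement

section Base

variable {F V : Type*} [Field F] [AddCommGroup V] [Module F V] {Q : QuadraticForm F V}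

/-- Squares of isometries are in `E Q`. -/
theorem sq_mem_E [FiniteDimensional F V] (hG : Good Q) {g : V ≃ₗ[F] V} (hg : g ∈ O Q) :
    g * g ∈ E Q := by
  have key : ∀ g ∈ Subgroup.closure (reflSet Q ∪ siegelSet Q), g ∈ O Q ∧ g * g ∈ E Q := by
    intro g hg
    induction hg using Subgroup.closure_induction with
    | mem x hx =>
      rcases hx with ⟨v, hv, rfl⟩ | ⟨u, w, hu, hw, rfl⟩
      · refine ⟨refl_mem_O hv, ?_⟩
        rw [refl_mul_self]
        exact (E Q).one_mem
      · exact ⟨siegel_mem_O hu hw, (E Q).mul_mem (siegel_mem_E hu hw) (siegel_mem_E hu hw)⟩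
    | one => exact ⟨(O Q).one_mem, by rw [mul_one]; exact (E Q).one_mem⟩
    | mul x y _ _ hx hy =>
      refine ⟨(O Q).mul_mem hx.1 hy.1, ?_⟩
      have e : x * y * (x * y) = (x * x) * (⁅x⁻¹, y⁆ * (y * y)) := by
        rw [commutatorElement_def]; group
      rw [e]
      refine (E Q).mul_mem hx.2 ((E Q).mul_mem ?_ hy.2)
      exact hG.commutator_le_E (Subgroup.commutator_mem_commutator ((O Q).inv_mem hx.1) hy.1)
    | inv x _ hx =>
      refine ⟨(O Q).inv_mem hx.1, ?_⟩
      have e : x⁻¹ * x⁻¹ = (x * x)⁻¹ := by group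
      rw [e]
      exact (E Q).inv_mem hx.2
  rw [O_eq_closure hG.nondeg] at hg
  exact (key g hg).2

/-- Powers of a cubic unipotent map. -/
theorem pow_eq_one_of_cube {p : ℕ} [Fact p.Prime] [CharP F p] (hp : p ≠ 2) {g : V ≃ₗ[F] V}
    (h3 : ∀ v, g (g (g v - v) - (g v - v)) - (g (g v - v) - (g v - v)) = 0) : g ^ p = 1 := by
  by_cases hV : ∃ v : V, v ≠ 0
  · obtain ⟨v₀, hv₀⟩ := hV
    have : Nontrivial V := ⟨v₀, 0, hv₀⟩
    have : CharP (Module.End F V) p :=
      charP_of_injective_algebraMap (algebraMap F (Module.End F V)).injective p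
    set N : Module.End F V := (g : V →ₗ[F] V) - 1 with hN
    have hNa : ∀ v, N v = g v - v := fun v => rfl
    have hN3 : N ^ 3 = 0 := by
      ext v
      have e : (N ^ 3) v = N (N (N v)) := by rw [pow_succ, pow_two]; rfl
      rw [e]
      simp only [hNa]
      exact h3 v
    have hp3 : 3 ≤ p := by
      have := (Fact.out : p.Prime).two_le
      omega
    have hNp : N ^ p = 0 := by
      obtain ⟨k, rfl⟩ := Nat.exists_eq_add_of_le hp3
      rw [pow_add, hN3, zero_mul]
    have hg : (g : Module.End F V) = 1 + N := by rw [hN]; abel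
    have hgp : (g : Module.End F V) ^ p = 1 := by
      rw [hg, add_pow_char_of_commute p (Commute.one_left N), one_pow, hNp, add_zero]
    have hpow : ∀ (n : ℕ) (v : V), (g ^ n) v = ((g : Module.End F V) ^ n) v := by
      intro n
      induction n with
      | zero => intro v; rfl
      | succ n ih =>
        intro v
        rw [pow_succ, pow_succ]
        exact ih (g v)
    ext v
    rw [hpow, hgp]
    rfl
  · push Not at hV
    ext v
    rw [hV v, map_zero, map_zero]

/-- Cubic unipotent isometries are in `E Q`. -/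
theorem unip_mem_E [FiniteDimensional F V] (hG : Good Q) {p : ℕ} [Fact p.Prime] [CharP F p]
    (hp : p ≠ 2) {g : V ≃ₗ[F] V} (hg : g ∈ O Q)
    (h3 : ∀ v, g (g (g v - v) - (g v - v)) - (g (g v - v) - (g v - v)) = 0) : g ∈ E Q := by
  have h1 := pow_eq_one_of_cube hp h3
  have hodd : Odd p := (Fact.out : p.Prime).odd_of_ne_two hp
  obtain ⟨m, hm⟩ := hodd
  have e : g = g ^ (m + 1) * g ^ (m + 1) := by
    rw [← pow_add]
    have : m + 1 + (m + 1) = p + 1 := by omega
    rw [this, pow_succ, h1, one_mul]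
  rw [e]
  exact sq_mem_E hG ((O Q).pow_mem hg _)

end Base

variable {F K V : Type*} [Field F] [Field K] [Algebra F K] [AddCommGroup V] [Module F V]
  [Module K V] [IsScalarTower F K V] {q : QuadraticForm K V} {Q : QuadraticForm F V} [Finite K]

/-- The unipotent radical attached to `K u`. -/
def Rad (q : QuadraticForm K V) (u : V) (g : V ≃ₗ[F] V) : Prop :=
  (∀ c : K, g (c • u) = c • u) ∧ ∀ w, polar q u w = 0 → ∃ c : K, g w = w + c • u

theorem Rad.sub_perp (hT : IsTr q Q) {u : V} {g : V ≃ₗ[F] V} (hg : g ∈ O Q) (h : Rad q u g)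
    (v : V) : polar q u (g v - v) = 0 := by
  rw [polar_sub_right, sub_eq_zero]
  apply hT.polar_ext
  intro c
  conv_lhs => rw [← h.1 c]
  rw [polar_map hg]

theorem Rad.cube (hT : IsTr q Q) {u : V} {g : V ≃ₗ[F] V} (hg : g ∈ O Q) (h : Rad q u g)
    (v : V) : g (g (g v - v) - (g v - v)) - (g (g v - v) - (g v - v)) = 0 := by
  obtain ⟨c, hc⟩ := h.2 _ (h.sub_perp hT hg v)
  rw [hc, add_sub_cancel_left, h.1, sub_self]

theorem Rad.mem_E [FiniteDimensional F V] (hT : IsTr q Q) (hG : Good Q) {p : ℕ} [Fact p.Prime]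
    [CharP F p] (hp : p ≠ 2) {u : V} {g : V ≃ₗ[F] V} (hg : g ∈ O Q) (h : Rad q u g) : g ∈ E Q :=
  unip_mem_E hG hp hg (h.cube hT hg)

theorem rad_T {u x : V} (hu : q u = 0) (hx : polar q u x = 0) : Rad q u (res F (T q u x)) := by
  constructor
  · intro c
    rw [res_apply, map_smul, T_apply_self hu hx]
  · intro w hw
    refine ⟨-polar q x w, ?_⟩
    rw [res_apply, T_apply_perp hu hx hw, neg_smul, sub_eq_add_neg]

/-- The `K`-Siegel maps are in `Ω`. -/
theorem res_T_mem_E [FiniteDimensional F V] (hT : IsTr q Q) (hG : Good Q) {p : ℕ} [Fact p.Prime]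
    [CharP F p] (hp : p ≠ 2) (u x : V) : res F (T q u x) ∈ E Q := by
  by_cases h : q u = 0 ∧ polar q u x = 0
  · exact (rad_T h.1 h.2).mem_E hT hG hp (hT.res_mem (T_mem_O u x))
  · rw [T_eq_one h, map_one]
    exact (E Q).one_mem

end Cfsg.Agent.H923.KF
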