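import Mathlib
import Cfsg.Agent.H923.Levi
import Cfsg.Agent.H923.Ext

/-!
Overgroups of `N_Ω(K)` which are not thin contain `Ω(Q)`, `[K : F]` an odd prime.
-/

set_option autoImplicit false
set_option linter.unusedSectionVars false

namespace Cfsg.Agent.H923.KF

open QuadraticMap Module Cfsg.Agent.LieClassical.OrthCore Cfsg.Agent.LieClassical.OrthTrans
  Cfsg.Agent.LieClassical.OrthSimple Cfsg.Agent.ClassicalGeometry.OrthAutBasic
  Cfsg.Agent.H887.SiegelMethod
open scoped commutatorElement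

variable {F K V : Type*} [Field F] [Field K] [Algebra F K] [AddCommGroup V] [Module F V]
  [Module K V] [IsScalarTower F K V] {q : QuadraticForm K V} {Q : QuadraticForm F V}

theorem Rad.mul {u : V} {g h : V ≃ₗ[F] V} (hg : Rad q u g) (hh : Rad q u h) :
    Rad q u (g * h) := by
  constructor
  · intro c
    change g (h (c • u)) = _
    rw [hh.1, hg.1]
  · intro w hw
    obtain ⟨c, hc⟩ := hh.2 w hw
    obtain ⟨d, hd⟩ := hg.2 w hw
    refine ⟨d + c, ?_⟩
    change g (h w) = _
    rw [hc, map_add, hg.1, hd, add_smul, add_assoc]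

theorem Rad.inv {u : V} {g : V ≃ₗ[F] V} (hg : Rad q u g) : Rad q u g⁻¹ := by
  constructor
  · intro c
    conv_lhs => rw [← hg.1 c]
    exact g.symm_apply_apply _
  · intro w hw
    obtain ⟨c, hc⟩ := hg.2 w hw
    refine ⟨-c, ?_⟩
    apply g.injective
    have e : g (g⁻¹ w) = w := g.apply_symm_apply w
    rw [e, map_add, hg.1, hc, neg_smul, add_neg_cancel_right]

theorem Rad.one (u : V) : Rad q u (1 : V ≃ₗ[F] V) :=
  ⟨fun _ => rfl, fun w _ => ⟨0, by rw [zero_smul, add_zero]; rfl⟩⟩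

/-- The ring of endomorphisms of `K` acting on the unipotent radical of `H`. -/
def RR (F : Type*) {K V : Type*} [Field F] [Field K] [Algebra F K] [AddCommGroup V] [Module F V]
    [Module K V] [IsScalarTower F K V]
    (q : QuadraticForm K V) (H : Subgroup (V ≃ₗ[F] V)) (u : V) : Subring (Module.End F K) where
  carrier := {ρ | ∀ g ∈ H, Rad q u g → ∃ g' ∈ H, Rad q u g' ∧
    ∀ w, polar q u w = 0 → ∀ c : K, g w = w + c • u → g' w = w + ρ c • u}
  zero_mem' := fun g _ _ => ⟨1, H.one_mem, Rad.one u, fun w _ c _ => by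
    rw [LinearMap.zero_apply, zero_smul, add_zero]; rfl⟩
  one_mem' := fun g hg hR => ⟨g, hg, hR, fun w _ c hc => hc⟩
  add_mem' := by
    intro ρ σ hρ hσ g hg hR
    obtain ⟨g₁, h1, hR1, he1⟩ := hρ g hg hR
    obtain ⟨g₂, h2, hR2, he2⟩ := hσ g hg hR
    refine ⟨g₁ * g₂, H.mul_mem h1 h2, hR1.mul hR2, fun w hw c hc => ?_⟩
    change g₁ (g₂ w) = _
    rw [he2 w hw c hc, map_add, he1 w hw c hc, hR1.1, LinearMap.add_apply, add_smul, add_assoc]
  neg_mem' := by
    intro ρ hρ g hg hR
    obtain ⟨g₁, h1, hR1, he1⟩ := hρ g hg hR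
    refine ⟨g₁⁻¹, H.inv_mem h1, hR1.inv, fun w hw c hc => ?_⟩
    apply g₁.injective
    have e : g₁ (g₁⁻¹ w) = w := g₁.apply_symm_apply w
    rw [e, map_add, hR1.1, he1 w hw c hc, LinearMap.neg_apply, neg_smul, add_neg_cancel_right]
  mul_mem' := by
    intro ρ σ hρ hσ g hg hR
    obtain ⟨g₁, h1, hR1, he1⟩ := hσ g hg hR
    obtain ⟨g₂, h2, hR2, he2⟩ := hρ g₁ h1 hR1
    exact ⟨g₂, h2, hR2, fun w hw c hc => he2 w hw _ (he1 w hw c hc)⟩

variable {H : Subgroup (V ≃ₗ[F] V)} [Finite K] [FiniteDimensional F V]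

theorem mem_RR {u : V} {ρ : Module.End F K} : ρ ∈ RR F q H u ↔ ∀ g ∈ H, Rad q u g →
    ∃ g' ∈ H, Rad q u g' ∧
    ∀ w, polar q u w = 0 → ∀ c : K, g w = w + c • u → g' w = w + ρ c • u := Iff.rfl

/-- Levi elements act on the unipotent radical. -/
theorem Over.levi_mem_RR (h : Over q Q H) {u : V} (hu0 : u ≠ 0) {m : V ≃ₗ[F] V} (hm : m ∈ H)
    (hline : ∀ c : K, ∃ d : K, m (c • u) = d • u)
    (htriv : ∀ w, polar q u w = 0 → ∃ d : K, m w = w + d • u) {ρ : Module.End F K}
    (hρ : ∀ c : K, m (c • u) = ρ c • u) : ρ ∈ RR F q H u := by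
  intro g hg hR
  have hsurj := line_surj hu0 hline
  have hmm : ∀ x, m (m⁻¹ x) = x := fun x => m.apply_symm_apply x
  have hmm' : ∀ x, m⁻¹ (m x) = x := fun x => m.symm_apply_apply x
  have hinv : ∀ c : K, ∃ d : K, m⁻¹ (c • u) = d • u := by
    intro c
    obtain ⟨d, hd⟩ := hsurj c
    exact ⟨d, by rw [← hd, hmm']⟩
  have hperp : ∀ w, polar q u w = 0 → polar q u (m⁻¹ w) = 0 := fun w hw =>
    perp_of_line h.tr ((O Q).inv_mem (h.leO hm)) (line_surj hu0 hinv) hw
  have hinv' : ∀ w, polar q u w = 0 → ∃ d : K, m⁻¹ w = w + d • u := by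
    intro w hw
    obtain ⟨d, hd⟩ := htriv _ (hperp w hw)
    rw [hmm] at hd
    refine ⟨-d, ?_⟩
    rw [neg_smul]
    conv_rhs => rw [hd]
    rw [add_neg_cancel_right]
  have key : ∀ w, polar q u w = 0 → ∀ c : K, g w = w + c • u →
      (m * g * m⁻¹) w = w + ρ c • u := by
    intro w hw c hc
    obtain ⟨d, hd⟩ := hinv' w hw
    change m (g (m⁻¹ w)) = _
    have e1 : g (m⁻¹ w) = m⁻¹ w + c • u := by
      rw [hd, map_add, hR.1, hc]
      abel
    rw [e1, map_add, hmm, hρ]
  refine ⟨m * g * m⁻¹, H.mul_mem (H.mul_mem hm hg) (H.inv_mem hm), ⟨?_, ?_⟩, key⟩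
  · intro c
    obtain ⟨d, hd⟩ := hinv c
    change m (g (m⁻¹ (c • u))) = _
    rw [hd, hR.1, ← hd, hmm]
  · intro w hw
    obtain ⟨c, hc⟩ := hR.2 w hw
    exact ⟨_, key w hw c hc⟩

theorem Over.mulLeft_mem_RR (h : Over q Q H) {p : ℕ} [Fact p.Prime] [CharP F p] (hp : p ≠ 2)
    {u u' : V} (hyp : Hyp q u u') (κ : K) : LinearMap.mulLeft F κ ∈ RR F q H u := by
  have hcK : CharP K p := charP_of_injective_algebraMap (algebraMap F K).injective p
  have h2K : (2 : K) ≠ 0 := CharP.cast_ne_zero_of_ne_of_prime K Nat.prime_two hp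
  have hsq : ∀ a : K, LinearMap.mulLeft F (a ^ 2) ∈ RR F q H u := by
    intro a
    by_cases ha : a = 0
    · subst ha
      have : LinearMap.mulLeft F ((0 : K) ^ 2) = 0 := by
        ext x
        rw [LinearMap.mulLeft_apply, zero_pow two_ne_zero, zero_mul, LinearMap.zero_apply]
      rw [this]
      exact (RR F q H u).zero_mem
    obtain ⟨t, htH, htu, htu', htw⟩ := h.exists_torus hyp ha
    have hline : ∀ c : K, (res F t) (c • u) = (c * a ^ 2) • u := by
      intro c
      rw [res_apply, map_smul, htu, smul_smul]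
    refine h.levi_mem_RR hyp.left_ne htH (fun c => ⟨_, hline c⟩) ?_ ?_
    · intro w hw
      have e : w = polar q u' w • u + (w - polar q u' w • u) := by abel
      have h1 : polar q u (w - polar q u' w • u) = 0 := by
        rw [polar_sub_right, polar_smul_right, hyp.polar_left, hw, smul_zero, sub_zero]
      have h3 : polar q u' (w - polar q u' w • u) = 0 := by
        rw [polar_sub_right, polar_smul_right, hyp.pair', smul_eq_mul, mul_one, sub_self]
      refine ⟨polar q u' w * a ^ 2 - polar q u' w, ?_⟩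
      conv_lhs => rw [e]
      rw [map_add, hline, res_apply, htw _ h1 h3, sub_smul]
      abel
    · intro c
      rw [hline, LinearMap.mulLeft_apply, mul_comm]
  obtain ⟨a, b, rfl⟩ := sq_sub_sq h2K κ
  have : LinearMap.mulLeft F (a ^ 2 - b ^ 2) = LinearMap.mulLeft F (a ^ 2) -
      LinearMap.mulLeft F (b ^ 2) := by
    ext x
    simp [sub_mul]
  rw [this]
  exact (RR F q H u).sub_mem (hsq a) (hsq b)

theorem Over.RR_eq_top (h : Over q Q H) {p : ℕ} [Fact p.Prime] [CharP F p] (hp : p ≠ 2)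
    (hr : (finrank F K).Prime) {u u' : V} (hyp : Hyp q u u') (hs : ¬ Scal q H u) :
    RR F q H u = ⊤ := by
  have hfF : Finite F := finiteF F K
  have hfK : FiniteDimensional F K := Module.Finite.of_finite
  unfold Scal at hs
  push Not at hs
  obtain ⟨m, hm, hline, htriv, hne⟩ := hs
  let ρ : K →ₗ[F] K :=
    { toFun := fun c => polar q u' (m (c • u))
      map_add' := fun a b => by rw [add_smul, map_add, polar_add_right]
      map_smul' := fun r a => by
        rw [RingHom.id_apply, smul_assoc, map_smul, ← algebraMap_smul K r (m (a • u)),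
          polar_smul_right, smul_eq_mul, Algebra.smul_def] }
  have hρ : ∀ c : K, m (c • u) = ρ c • u := by
    intro c
    obtain ⟨d, hd⟩ := hline c
    have : ρ c = d := by
      change polar q u' (m (c • u)) = d
      rw [hd, polar_smul_right, hyp.pair', smul_eq_mul, mul_one]
    rw [this, hd]
  refine subring_eq_top hr _ (h.mulLeft_mem_RR hp hyp)
    ⟨ρ, h.levi_mem_RR hyp.left_ne hm hline htriv hρ, ?_⟩
  by_contra hcon
  push Not at hcon
  obtain ⟨c, hc⟩ := hne (ρ 1)
  apply hc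
  rw [hρ]
  congr 1
  have := hcon c 1
  rw [mul_one] at this
  rw [this, mul_comm]

/-- `F`-Siegel maps modulo elements trivial on `u^⊥`. -/
theorem Over.exists_siegel (h : Over q Q H) {p : ℕ} [Fact p.Prime] [CharP F p] (hp : p ≠ 2)
    {u : V} (hu : q u = 0) (htop : RR F q H u = ⊤) {x : V} (hx : polar q u x = 0) (a : K) :
    ∃ g ∈ H, Rad q u g ∧ ∀ w, polar q u w = 0 → g w = w - polar Q x w • a • u := by
  have h1 : ((Algebra.trace F K).smulRight a : Module.End F K) ∈ RR F q H u := by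
    rw [htop]
    trivial
  obtain ⟨g, hg, hR, he⟩ := h1 _ (h.T_mem hp u x) (rad_T hu hx)
  refine ⟨g, hg, hR, fun w hw => ?_⟩
  have h3 := he w hw (-polar q x w) (by
    rw [res_apply, T_apply_perp hu hx hw, neg_smul, sub_eq_add_neg])
  rw [h3, LinearMap.smulRight_apply, map_neg, ← h.tr.polar, neg_smul, neg_smul, smul_assoc,
    sub_eq_add_neg]

/-- **The long root elements of a `K`-line.** -/
theorem Over.root_mem (h : Over q Q H) {p : ℕ} [Fact p.Prime] [CharP F p] (hp : p ≠ 2)
    (hK : 3 ≤ finrank K V) {u u' : V} (hyp : Hyp q u u') (htop : RR F q H u = ⊤) (c d : K) :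
    T Q (c • u) (d • u) ∈ H := by
  have hT := h.tr
  have hu := hyp.left
  obtain ⟨x₁, x₂, h1, -, h2, -, h12⟩ := exists_perp2 h.nondeg hK hyp
  obtain ⟨e, he⟩ : ∃ e : K, Algebra.trace F K e ≠ 0 := by
    by_contra hcon
    push Not at hcon
    have : (1 : K) = 0 := trace_eq_zero (F := F) fun c => hcon _
    exact one_ne_zero this
  have hx : polar q u (e • x₁) = 0 := by rw [polar_smul_right, h1, smul_zero]
  set β := polar Q (e • x₁) x₂ with hβ
  have hβ0 : β ≠ 0 := by
    rw [hβ, hT.polar_smul, h12, mul_one]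
    exact he
  obtain ⟨g₁, hg₁, hR₁, he₁⟩ := h.exists_siegel hp hu htop hx c
  obtain ⟨g₂, hg₂, hR₂, he₂⟩ := h.exists_siegel hp hu htop h2 (β⁻¹ • d)
  have hO₁ := h.leO hg₁
  have hO₂ := h.leO hg₂
  have hQu : ∀ a : K, Q (a • u) = 0 := hT.sing_smul hu
  have hcu : polar Q (c • u) (d • u) = 0 := by
    rw [hT.polar_smul, polar_smul_right, hyp.polar_left, smul_zero, mul_zero, map_zero]
  have key : ∀ (g : V ≃ₗ[F] V), g ∈ O Q → Rad q u g → ∀ (x y : V) (a : K), polar q u x = 0 →
      polar q u y = 0 → (∀ w, polar q u w = 0 → g w = w - polar Q x w • a • u) → ∀ v,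
      polar Q y (g v - v) = polar Q x y * polar Q (a • u) v := by
    intro g hg hR x y a hx hy he v
    have e1 : g (y + polar Q x y • a • u) = y := by
      have e3 : polar Q x y • a • u = (polar Q x y • a) • u := (smul_assoc _ _ _).symm
      rw [map_add, he y hy, e3, hR.1]
      abel
    have e4 : polar Q y (g v) = polar Q (y + polar Q x y • a • u) v := by
      conv_lhs => rw [← e1]
      exact polar_map hg _ _
    rw [polar_sub_right, e4, polar_add_left, polar_smul_left, smul_eq_mul]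
    ring
  have hcomm : g₁ * g₂ = T Q (c • u) (d • u) * (g₂ * g₁) := by
    ext v
    change g₁ (g₂ v) = T Q (c • u) (d • u) (g₂ (g₁ v))
    have p1 := hR₁.sub_perp hT hO₁ v
    have p2 := hR₂.sub_perp hT hO₂ v
    have q1 : g₁ (g₂ v) = g₁ v + (g₂ v - v) - polar Q (e • x₁) (g₂ v - v) • c • u := by
      have : g₂ v = v + (g₂ v - v) := by abel
      conv_lhs => rw [this, map_add, he₁ _ p2]
      abel
    have q2 : g₂ (g₁ v) = g₂ v + (g₁ v - v) - polar Q x₂ (g₁ v - v) • (β⁻¹ • d) • u := by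
      have : g₁ v = v + (g₁ v - v) := by abel
      conv_lhs => rw [this, map_add, he₂ _ p1]
      abel
    have k1 := key g₂ hO₂ hR₂ x₂ (e • x₁) _ h2 hx he₂ v
    have k2 := key g₁ hO₁ hR₁ (e • x₁) x₂ _ hx h2 he₁ v
    have f1 : ∀ a : K, polar Q (a • u) (g₂ (g₁ v)) = polar Q (a • u) v := by
      intro a
      conv_lhs => rw [← hR₂.1 a]
      rw [polar_map hO₂]
      conv_lhs => rw [← hR₁.1 a]
      rw [polar_map hO₁]
    rw [T_apply_root (hQu c) (hQu d) hcu, f1, f1, q1, q2, k1, k2, polar_comm Q x₂, ← hβ]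
    have e2 : polar Q ((β⁻¹ • d) • u) v = β⁻¹ * polar Q (d • u) v := by
      rw [smul_assoc, polar_smul_left, smul_eq_mul]
    have e5 : β * (β⁻¹ * polar Q (d • u) v) = polar Q (d • u) v := by
      rw [← mul_assoc, mul_inv_cancel₀ hβ0, one_mul]
    have e6 : (β * polar Q (c • u) v) • β⁻¹ • d • u = polar Q (c • u) v • d • u := by
      rw [smul_smul]
      congr 1
      field_simp
    rw [e2, smul_assoc β⁻¹ d u, e5, e6]
    abel
  have : T Q (c • u) (d • u) = g₁ * g₂ * (g₂ * g₁)⁻¹ := by rw [hcomm]; group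
  rw [this]
  exact H.mul_mem (H.mul_mem hg₁ hg₂) (H.inv_mem (H.mul_mem hg₂ hg₁))

/-- From the long root elements of two opposite `K`-lines to a full Siegel group. -/
theorem Over.full_of_root (h : Over q Q H) {p : ℕ} [Fact p.Prime] [CharP F p] (hp : p ≠ 2)
    (hr : 3 ≤ finrank F K) {u u' : V} (hyp : Hyp q u u')
    (hJ : ∀ c d : K, T Q (c • u) (d • u) ∈ H) (hJ' : ∀ c d : K, T Q (c • u') (d • u') ∈ H) :
    ∀ x, polar Q u x = 0 → x ∈ Ts Q H u := by
  have hfF : Finite F := finiteF F K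
  have hfK : FiniteDimensional F K := Module.Finite.of_finite
  have hT := h.tr
  have hu := hyp.left
  have hu' := hyp.right
  have hQu : ∀ a : K, Q (a • u) = 0 := hT.sing_smul hu
  have hQu' : ∀ a : K, Q (a • u') = 0 := hT.sing_smul hu'
  have hpair : ∀ a b : K, polar Q (a • u') (b • u) = Algebra.trace F K (a * b) := by
    intro a b
    rw [hT.polar_smul, polar_smul_right, hyp.pair', smul_eq_mul, mul_one]
  have hpair' : ∀ a b : K, polar Q (a • u') (b • u') = 0 := by
    intro a b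
    rw [hT.polar_smul, polar_smul_right, hyp.polar_right, smul_zero, mul_zero, map_zero]
  have step1 : ∀ d : K, d • u ∈ Ts Q H u := by
    intro d
    refine ⟨?_, fun c => ?_⟩
    · rw [hT.polar, polar_smul_right, hyp.polar_left, smul_zero, map_zero]
    · have := hJ 1 (c • d)
      rwa [one_smul, smul_assoc] at this
  have hker : ∀ c₂ : K, ∃ c₁ : K, Algebra.trace F K c₁ = 0 ∧ ∀ l : F, c₁ ≠ l • c₂ := by
    intro c₂
    by_contra hcon
    push Not at hcon
    have h1 : LinearMap.ker (Algebra.trace F K) ≤ Submodule.span F {c₂} := by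
      intro x hx
      obtain ⟨l, hl⟩ := hcon x (LinearMap.mem_ker.1 hx)
      exact Submodule.mem_span_singleton.2 ⟨l, hl.symm⟩
    have h2 := Submodule.finrank_mono h1
    have h3 := finrank_span_le_card (R := F) ({c₂} : Set K)
    rw [Set.toFinset_singleton, Finset.card_singleton] at h3
    have h4 := LinearMap.finrank_range_add_finrank_ker (Algebra.trace F K)
    have h5 := Submodule.finrank_le (LinearMap.range (Algebra.trace F K))
    rw [Module.finrank_self] at h5
    omega
  have step2 : ∀ c₂ : K, Algebra.trace F K c₂ = 0 → c₂ • u' ∈ Ts Q H u := by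
    intro c₂ hc₂
    by_cases hc0 : c₂ = 0
    · rw [hc0, zero_smul]
      exact (Ts Q H u).zero_mem
    obtain ⟨c₁, hc₁, hind⟩ := hker c₂
    obtain ⟨c, hc2, hc1⟩ : ∃ c : K, Algebra.trace F K (c₂ * c) = 0 ∧
        Algebra.trace F K (c₁ * c) ≠ 0 := by
      by_contra hcon
      push Not at hcon
      obtain ⟨c₀, hc₀⟩ : ∃ c₀ : K, Algebra.trace F K (c₂ * c₀) = 1 := by
        obtain ⟨b, hb⟩ : ∃ b : K, Algebra.trace F K (c₂ * b) ≠ 0 := by
          by_contra hcon
          push Not at hcon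
          exact hc0 (trace_eq_zero (F := F) fun c => by rw [mul_comm]; exact hcon c)
        refine ⟨(Algebra.trace F K (c₂ * b))⁻¹ • b, ?_⟩
        rw [mul_smul_comm, map_smul, smul_eq_mul, inv_mul_cancel₀ hb]
      apply hind (Algebra.trace F K (c₁ * c₀))
      rw [← sub_eq_zero]
      apply trace_eq_zero (F := F)
      intro c
      have h1 := hcon (c - Algebra.trace F K (c₂ * c) • c₀) (by
        rw [mul_sub, mul_smul_comm, map_sub, map_smul, hc₀, smul_eq_mul, mul_one, sub_self])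
      rw [mul_sub, mul_smul_comm, map_sub, map_smul, smul_eq_mul] at h1
      rw [mul_sub, mul_smul_comm, map_sub, map_smul, smul_eq_mul, mul_comm c c₁, mul_comm c c₂,
        mul_comm (Algebra.trace F K (c₁ * c₀))]
      exact h1
    have hfix : T Q (c₁ • u') (c₂ • u') u = u := by
      rw [T_apply_root (hQu' c₁) (hQu' c₂) (hpair' _ _)]
      have e1 : polar Q (c₁ • u') u = 0 := by
        have := hpair c₁ 1
        rwa [one_smul, mul_one, hc₁] at this
      have e2 : polar Q (c₂ • u') u = 0 := by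
        have := hpair c₂ 1
        rwa [one_smul, mul_one, hc₂] at this
      rw [e1, e2, zero_smul, zero_smul, add_zero, sub_zero]
    have h1 := root_mem_Ts h.leO (hQu' c₁) (hQu' c₂) (hpair' _ _) (hJ' c₁ c₂) hfix (step1 c)
    rw [hpair, hpair, hc2, zero_smul, sub_zero] at h1
    have h3 := (Ts Q H u).smul_mem (Algebra.trace F K (c₁ * c))⁻¹ h1
    rwa [smul_smul, inv_mul_cancel₀ hc1, one_smul] at h3
  have step3 : ∀ y, polar q u y = 0 → y ∈ Ts Q H u := by
    intro y hy
    obtain ⟨c, hc, hc0⟩ := hker 0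
    have hc0' : c ≠ 0 := by
      have := hc0 1
      rwa [smul_zero] at this
    have hy' : polar q u (c⁻¹ • y) = 0 := by rw [polar_smul_right, hy, smul_zero]
    have hm := h.T_mem hp u (c⁻¹ • y)
    have h1 := fix_mem_Ts hm (h.leO hm) (u := u) (x := c • u') (T_apply_self hu hy') (step2 c hc)
    rw [res_apply, T_apply hu hy', polar_smul_right, hyp.pair, smul_eq_mul, mul_one, smul_smul,
      mul_inv_cancel₀ hc0', one_smul] at h1
    have h3 := (Ts Q H u).add_mem ((Ts Q H u).sub_mem h1 (step2 c hc))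
      ((Ts Q H u).add_mem (step1 (polar q (c⁻¹ • y) (c • u'))) (step1 (q (c⁻¹ • y) * c)))
    have e : c • u' + y - polar q (c⁻¹ • y) (c • u') • u - (q (c⁻¹ • y) * c) • u - c • u' +
        (polar q (c⁻¹ • y) (c • u') • u + (q (c⁻¹ • y) * c) • u) = y := by abel
    rwa [e] at h3
  intro x hx
  have e : x = (x - polar q u x • u') + polar q u x • u' := by abel
  rw [e]
  refine (Ts Q H u).add_mem (step3 _ ?_) (step2 _ ?_)
  · rw [polar_sub_right, polar_smul_right, hyp.pair, smul_eq_mul, mul_one, sub_self]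
  · rw [← hT.polar]
    exact hx

/-- **Overgroups which are not thin.** -/
theorem Over.E_le_of_not_thin (h : Over q Q H) {p : ℕ} [Fact p.Prime] [CharP F p] (hp : p ≠ 2)
    (hr : (finrank F K).Prime) (hr2 : finrank F K ≠ 2) (hK : 3 ≤ finrank K V)
    {u : V} (hu : q u = 0) (hu0 : u ≠ 0) (hnt : ¬ Thin q H u) : E Q ≤ H := by
  obtain ⟨u', hyp⟩ := exists_hyp h.nondeg hu hu0
  have hr3 : 3 ≤ finrank F K := by
    have := hr.two_le
    omega
  have hne : ∃ z ∈ NU q H u, z ≠ 1 := by
    by_contra hcon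
    push Not at hcon
    exact hnt (h.thin_of_trivial hp hyp fun z hz hz' => hcon z ⟨hz, hz'⟩)
  have hs := h.exists_levi hp (hr.odd_of_ne_two hr2) hK hyp hne
  have hJ := h.root_mem hp hK hyp (h.RR_eq_top hp hr hyp hs)
  -- the opposite line
  obtain ⟨z, w, e, he, hmove⟩ := exists_T_move h.nondeg hK hyp.left hyp.right hyp.left_ne
    hyp.right_ne
  have hm := h.T_mem hp z w
  have hJ' : ∀ c d : K, T Q (c • u') (d • u') ∈ H := by
    intro c d
    have h1 := hJ (c * e) (d * e)
    have e1 : ∀ c : K, (c * e) • u = res F (T q z w) (c • u') := by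
      intro c
      rw [res_apply, map_smul, hmove, smul_smul]
    rw [e1, e1, ← T_conj (h.leO hm)] at h1
    have h3 := H.mul_mem (H.mul_mem (H.inv_mem hm) h1) hm
    have e2 : (res F (T q z w))⁻¹ * (res F (T q z w) * T Q (c • u') (d • u') *
        (res F (T q z w))⁻¹) * res F (T q z w) = T Q (c • u') (d • u') := by group
    rwa [e2] at h3
  obtain ⟨b, hb⟩ : ∃ b : K, Algebra.trace F K b ≠ 0 := by
    by_contra hcon
    push Not at hcon
    have : (1 : K) = 0 := trace_eq_zero (F := F) fun c => hcon _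
    exact one_ne_zero this
  have hb0 : b ≠ 0 := by
    rintro rfl
    exact hb (map_zero _)
  have hyp2 : Hyp q (b • u') (b⁻¹ • u) := by
    refine ⟨?_, ?_, ?_⟩
    · rw [QuadraticMap.map_smul, hyp.right, smul_zero]
    · rw [QuadraticMap.map_smul, hyp.left, smul_zero]
    · rw [polar_smul_left, polar_smul_right, hyp.pair', smul_eq_mul, smul_eq_mul, mul_one,
        mul_inv_cancel₀ hb0]
  refine E_le_of_Ts (H := H) h.good (e := u) (f := b • u') ?_ ?_ ?_
    (h.full_of_root hp hr3 hyp hJ hJ') (h.full_of_root hp hr3 hyp2 ?_ ?_)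
  · have := h.tr.sing_smul hyp.left (1 : K)
    rwa [one_smul] at this
  · exact h.tr.sing_smul hyp.right b
  · rw [h.tr.polar, polar_smul_right, hyp.pair, smul_eq_mul, mul_one]
    exact hb
  · intro c d
    rw [smul_smul, smul_smul]
    exact hJ' _ _
  · intro c d
    rw [smul_smul, smul_smul]
    exact hJ _ _

/-- **Overgroups of `N_Ω(K)`, `K` of odd prime degree.** -/
theorem Over.main (h : Over q Q H) {p : ℕ} [Fact p.Prime] [CharP F p] (hp : p ≠ 2)
    (hr : (finrank F K).Prime) (hr2 : finrank F K ≠ 2) (hK : 3 ≤ finrank K V)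
    (hex : ¬ (p = 3 ∧ finrank F K = 3 ∧ finrank K V = 3))
    {u : V} (hu : q u = 0) (hu0 : u ≠ 0) (hH : ¬ H ≤ NK F K V) : E Q ≤ H := by
  by_cases hthin : Thin q H u
  · exact absurd (h.le_NK hp hr hK hex hu hu0 hthin (Or.inl fun hc => hr2 hc.2)) hH
  · exact h.E_le_of_not_thin hp hr hr2 hK hu hu0 hthin

end Cfsg.Agent.H923.KF
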