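import Mathlib
import Cfsg.Agent.H923.KUnip

/-!
Overgroups `H` of the normaliser of `K` in `Ω(Q)`, `Q` the trace form of the `K`-form `q`. `H` is
*thin* at the `K`-singular vector `u` if its intersection with the unipotent radical of the stabiliser
of `K u` consists of `K`-Siegel maps. Then the stabiliser of `K u` in `H` normalises `K`.
-/

set_option autoImplicit false
set_option linter.unusedSectionVars false

namespace Cfsg.Agent.H923.KF

open QuadraticMap Module Cfsg.Agent.LieClassical.OrthCore Cfsg.Agent.LieClassical.OrthTrans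
  Cfsg.Agent.LieClassical.OrthSimple Cfsg.Agent.ClassicalGeometry.OrthAutBasic
open scoped commutatorElement

variable {F K V : Type*} [Field F] [Field K] [Algebra F K] [AddCommGroup V] [Module F V]
  [Module K V] [IsScalarTower F K V] {q : QuadraticForm K V} {Q : QuadraticForm F V}

/-- The standing hypotheses on an overgroup of `N_Ω(K)`. -/
structure Over (q : QuadraticForm K V) (Q : QuadraticForm F V) (H : Subgroup (V ≃ₗ[F] V)) :
    Prop where
  tr : IsTr q Q
  good : Good Q
  le : H ≤ E Q
  mem : ∀ g ∈ E Q, g ∈ NK F K V → g ∈ H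

/-- Thinness at `u`. -/
def Thin (q : QuadraticForm K V) (H : Subgroup (V ≃ₗ[F] V)) (u : V) : Prop :=
  ∀ g ∈ H, Rad q u g → ∃ x, polar q u x = 0 ∧ g = res F (T q u x)

section

variable {H : Subgroup (V ≃ₗ[F] V)} [Finite K] [FiniteDimensional F V]

theorem Over.leO (h : Over q Q H) : H ≤ O Q := h.le.trans E_le_O

theorem Over.nondeg (h : Over q Q H) : Nondeg q := h.tr.nondeg h.good.nondeg

theorem Over.T_mem (h : Over q Q H) {p : ℕ} [Fact p.Prime] [CharP F p] (hp : p ≠ 2) (u x : V) :
    res F (T q u x) ∈ H :=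
  h.mem _ (res_T_mem_E h.tr h.good hp u x) (res_mem_NK _)

/-- An isometry preserving `K u` preserves its orthogonal complement. -/
theorem perp_of_line (hT : IsTr q Q) {u : V} {g : V ≃ₗ[F] V} (hg : g ∈ O Q)
    (hgu : ∀ c : K, ∃ d : K, g (d • u) = c • u) {w : V} (hw : polar q u w = 0) :
    polar q u (g w) = 0 := by
  apply hT.polar_eq_zero
  intro c
  obtain ⟨d, hd⟩ := hgu c
  rw [← hd, polar_map hg, hT.polar_smul, hw, mul_zero, map_zero]

/-- Surjectivity on the line. -/
theorem line_surj {u : V} (hu0 : u ≠ 0) {g : V ≃ₗ[F] V} (h : ∀ c : K, ∃ d : K, g (c • u) = d • u)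
    (c : K) : ∃ d : K, g (d • u) = c • u := by
  choose t ht using h
  have hinj : Function.Injective t := by
    intro a b hab
    have h1 : g (a • u) = g (b • u) := by rw [ht, ht, hab]
    have h2 := g.injective h1
    rw [← sub_eq_zero, ← sub_smul] at h2
    exact sub_eq_zero.1 ((smul_eq_zero.1 h2).resolve_right hu0)
  obtain ⟨d, hd⟩ := (Finite.injective_iff_surjective.1 hinj) c
  exact ⟨d, by rw [ht, hd]⟩

/-- **The stabiliser of a thin `K`-line normalises `K`.** -/
theorem Over.stab (h : Over q Q H) {p : ℕ} [Fact p.Prime] [CharP F p] (hp : p ≠ 2)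
    (hK : 3 ≤ finrank K V) {u : V} (hu : q u = 0) (hu0 : u ≠ 0) (hthin : Thin q H u)
    {g : V ≃ₗ[F] V} (hg : g ∈ H) (hgu : ∀ c : K, ∃ d : K, g (c • u) = d • u) :
    g ∈ NK F K V := by
  have hT := h.tr
  have hq := h.nondeg
  have hgO := h.leO hg
  have h2 : (2 : K) ≠ 0 := by
    have : CharP K p := charP_of_injective_algebraMap (algebraMap F K).injective p
    exact CharP.cast_ne_zero_of_ne_of_prime K Nat.prime_two hp
  have h2' : (2 : F) ≠ 0 := CharP.cast_ne_zero_of_ne_of_prime F Nat.prime_two hp
  obtain ⟨u', hyp⟩ := exists_hyp hq hu hu0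
  have hsurj := line_surj hu0 hgu
  have hperp : ∀ {w : V}, polar q u w = 0 → polar q u (g w) = 0 := fun hw =>
    perp_of_line hT hgO hsurj hw
  have hginv : ∀ c : K, ∃ d : K, g⁻¹ (c • u) = d • u := by
    intro c
    obtain ⟨d, hd⟩ := hsurj c
    exact ⟨d, by rw [← hd]; exact g.symm_apply_apply _⟩
  have hperp' : ∀ {w : V}, polar q u w = 0 → polar q u (g⁻¹ w) = 0 := fun hw =>
    perp_of_line hT ((O Q).inv_mem hgO) (line_surj hu0 hginv) hw
  have hgg : ∀ v : V, g (g⁻¹ v) = v := fun v => g.apply_symm_apply v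
  have hgg' : ∀ v : V, g⁻¹ (g v) = v := fun v => g.symm_apply_apply v
  -- the action on the line
  let γ : K →ₗ[F] K :=
    { toFun := fun c => polar q u' (g (c • u))
      map_add' := fun a b => by rw [add_smul, map_add, polar_add_right]
      map_smul' := fun r a => by
        rw [RingHom.id_apply, smul_assoc, map_smul, ← algebraMap_smul K r (g (a • u)),
          polar_smul_right, smul_eq_mul, Algebra.smul_def] }
  have hγ : ∀ c : K, g (c • u) = γ c • u := by
    intro c
    obtain ⟨d, hd⟩ := hgu c
    have : γ c = d := by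
      change polar q u' (g (c • u)) = d
      rw [hd, polar_smul_right, hyp.pair', smul_eq_mul, mul_one]
    rw [this, hd]
  have hγinj : ∀ {c d : K}, γ c = γ d → c = d := by
    intro c d hcd
    have h1 : g (c • u) = g (d • u) := by rw [hγ, hγ, hcd]
    have h2 := g.injective h1
    rw [← sub_eq_zero, ← sub_smul] at h2
    exact sub_eq_zero.1 ((smul_eq_zero.1 h2).resolve_right hu0)
  have hγ1 : γ 1 ≠ 0 := by
    intro h0
    have : (1 : K) = 0 := hγinj (by rw [h0, map_zero])
    exact one_ne_zero this
  -- conjugates of the Siegel maps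
  have hconj : ∀ x : V, polar q u x = 0 → ∃ x' : V, polar q u x' = 0 ∧
      ∀ v : V, g (T q u x v) = T q u x' (g v) := by
    intro x hx
    obtain ⟨x', hx', he⟩ := hthin (g * res F (T q u x) * g⁻¹)
      (H.mul_mem (H.mul_mem hg (h.T_mem hp u x)) (H.inv_mem hg)) (by
        constructor
        · intro c
          obtain ⟨d, hd⟩ := hginv c
          change g (T q u x (g⁻¹ (c • u))) = c • u
          rw [hd, map_smul, T_apply_self hu hx, ← hd, hgg]
        · intro w hw
          change ∃ c : K, g (T q u x (g⁻¹ w)) = w + c • u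
          rw [T_apply_perp hu hx (hperp' hw), map_sub, hgg, hγ]
          exact ⟨-γ (polar q x (g⁻¹ w)), by rw [neg_smul, sub_eq_add_neg]⟩)
    refine ⟨x', hx', fun v => ?_⟩
    have := LinearEquiv.congr_fun he (g v)
    change g (T q u x (g⁻¹ (g v))) = T q u x' (g v) at this
    rwa [hgg'] at this
  have hb : ∀ x x' : V, polar q u x = 0 → polar q u x' = 0 →
      (∀ v : V, g (T q u x v) = T q u x' (g v)) → ∀ w : V, polar q u w = 0 →
      γ (polar q x w) = polar q x' (g w) := by
    intro x x' hx hx' he w hw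
    have h1 := he w
    rw [T_apply_perp hu hx hw, T_apply_perp hu hx' (hperp hw), map_sub, hγ, sub_right_inj] at h1
    rw [← sub_eq_zero, ← sub_smul] at h1
    exact sub_eq_zero.1 ((smul_eq_zero.1 h1).resolve_right hu0)
  choose! σ hσ hσT using hconj
  have hσb : ∀ x : V, polar q u x = 0 → ∀ w : V, polar q u w = 0 →
      γ (polar q x w) = polar q (σ x) (g w) := fun x hx w hw => hb x (σ x) hx (hσ x hx) (hσT x hx) w hw
  -- a pair in `u^⊥`
  obtain ⟨x₀, w₀, hx₀, -, hw₀, -, hxw⟩ := exists_perp2 hq hK hyp
  have hsemi : ∀ c : K, ∃ c' : K, ∀ d : K, γ (c • d) = c' • γ d := by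
    intro c
    set y₀ : V := (γ 1)⁻¹ • g w₀ with hy₀
    have hy₀p : polar q u y₀ = 0 := by rw [hy₀, polar_smul_right, hperp hw₀, smul_zero]
    have hx₀y₀ : polar q (σ x₀) y₀ = 1 := by
      rw [hy₀, polar_smul_right, ← hσb x₀ hx₀ w₀ hw₀, hxw, smul_eq_mul, inv_mul_cancel₀ hγ1]
    have hcx : polar q u (c • x₀) = 0 := by rw [polar_smul_right, hx₀, smul_zero]
    refine ⟨polar q (σ (c • x₀)) y₀, fun d => ?_⟩
    set w : V := g⁻¹ (γ d • y₀) with hw
    have hwp : polar q u w = 0 := hperp' (by rw [polar_smul_right, hy₀p, smul_zero])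
    have hgw : g w = γ d • y₀ := hgg _
    have h1 : polar q x₀ w = d := by
      apply hγinj
      rw [hσb x₀ hx₀ w hwp, hgw, polar_smul_right, hx₀y₀, smul_eq_mul, mul_one]
    have h3 := hσb (c • x₀) hcx w hwp
    rw [polar_smul_left, h1, hgw, polar_smul_right, smul_eq_mul, smul_eq_mul] at h3
    rw [smul_eq_mul, h3, smul_eq_mul, mul_comm]
  obtain ⟨τ, hτ⟩ := exists_algEquiv (F := F) (K := K) γ (a₀ := 1) hγ1 hsemi
  have hτγ : ∀ c : K, γ c = τ c * γ 1 := by
    intro c
    have := hτ c 1
    rwa [smul_eq_mul, smul_eq_mul, mul_one] at this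
  -- semilinear modulo the line
  have hmod : ∀ (c : K) (w : V), polar q u w = 0 → ∃ e : K, g (c • w) = τ c • g w + e • u := by
    intro c w hw
    have hcw : polar q u (c • w) = 0 := by rw [polar_smul_right, hw, smul_zero]
    set y : V := g (c • w) - τ c • g w with hy
    have hyp' : polar q u y = 0 := by
      rw [hy, polar_sub_right, polar_smul_right, hperp hcw, hperp hw, smul_zero, sub_zero]
    have h1 : ∀ x, polar q u x = 0 → polar q x (g⁻¹ y) = 0 := by
      intro x hx
      apply hγinj
      rw [hσb x hx _ (hperp' hyp'), hgg, map_zero, hy, polar_sub_right, polar_smul_right,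
        ← hσb x hx _ hcw, ← hσb x hx _ hw, polar_smul_right, hτ, sub_self]
    obtain ⟨e, he⟩ := mem_line_of_perp_perp hq h1
    refine ⟨γ e, ?_⟩
    have h3 : y = γ e • u := by rw [← hgg y, he, hγ]
    rw [← h3, hy]
    abel
  -- values of the form
  have hval : ∀ w : V, polar q u w = 0 → q (g w) = τ (q w) := by
    intro w hw
    rw [← sub_eq_zero]
    apply trace_sq_eq_zero (F := F) h2
    intro e
    obtain ⟨c, rfl⟩ := τ.surjective e
    obtain ⟨a, ha⟩ := hmod c w hw
    have h1 : Q (g (c • w)) = Q (c • w) := mem_O.1 hgO _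
    rw [hT, hT, ha, Q_add, QuadraticMap.map_smul, QuadraticMap.map_smul, hu, polar_smul_left,
      polar_smul_right, polar_comm q (g w) u, hperp hw, smul_zero, smul_zero, smul_zero, add_zero,
      add_zero, QuadraticMap.map_smul, ← trace_algEquiv (F := F) τ (_ • q w), smul_eq_mul,
      smul_eq_mul, map_mul τ, map_mul τ] at h1
    rw [mul_sub, map_sub, sub_eq_zero, pow_two]
    exact h1
  -- the graded semilinear isometry
  let P : V →ₗ[K] V := LinearMap.id - (polarBilin q u').smulRight u - (polarBilin q u).smulRight u'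
  have hP : ∀ v, P v = v - polar q u' v • u - polar q u v • u' := by
    intro v
    simp only [P, LinearMap.sub_apply, LinearMap.id_apply, LinearMap.smulRight_apply,
      polarBilin_apply_apply]
  have hPu : ∀ v, polar q u (P v) = 0 := by
    intro v
    rw [hP, polar_sub_right, polar_sub_right, polar_smul_right, polar_smul_right, hyp.polar_left,
      hyp.pair, smul_eq_mul, smul_eq_mul]
    ring
  have hPu' : ∀ v, polar q u' (P v) = 0 := by
    intro v
    rw [hP, polar_sub_right, polar_sub_right, polar_smul_right, polar_smul_right, hyp.polar_right,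
      hyp.pair', smul_eq_mul, smul_eq_mul]
    ring
  have hdec : ∀ v, v = polar q u' v • u + P v + polar q u v • u' := by
    intro v
    rw [hP]
    module
  have hqdec : ∀ (a b : K) (w : V), polar q u w = 0 → polar q u' w = 0 →
      q (a • u + w + b • u') = a * b + q w := by
    intro a b w hw hw'
    rw [Q_add, Q_add, QuadraticMap.map_smul, QuadraticMap.map_smul, hyp.left, hyp.right,
      polar_add_left, polar_smul_left, polar_smul_left, polar_smul_right, polar_smul_right,
      hyp.pair, hw, polar_comm q w u', hw', smul_zero, smul_zero, smul_zero, smul_zero]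
    simp only [smul_eq_mul]
    ring
  let G : V →ₗ[F] V :=
    { toFun := fun v => (τ (polar q u' v) * γ 1) • u + P (g (P v)) +
        (τ (polar q u v) * (γ 1)⁻¹) • u'
      map_add' := fun v w => by
        rw [polar_add_right, polar_add_right, map_add, map_add, map_add, map_add, map_add]
        module
      map_smul' := fun r v => by
        have e1 : ∀ x : V, polar q x (r • v) = algebraMap F K r * polar q x v := by
          intro x
          rw [← algebraMap_smul K r v, polar_smul_right, smul_eq_mul]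
        rw [RingHom.id_apply, e1, e1, map_mul, map_mul, AlgEquiv.commutes,
          ← algebraMap_smul K r v, map_smul, algebraMap_smul K r (P v), map_smul,
          ← algebraMap_smul K r (g (P v)), map_smul, ← algebraMap_smul K r (_ + _ + _)]
        module }
  have hG : ∀ v, G v = (τ (polar q u' v) * γ 1) • u + P (g (P v)) +
        (τ (polar q u v) * (γ 1)⁻¹) • u' := fun _ => rfl
  have hgP : ∀ w, polar q u w = 0 → g w = P (g w) + polar q u' (g w) • u := by
    intro w hw
    conv_lhs => rw [hdec (g w), hperp hw, zero_smul, add_zero]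
    abel
  have hGQ : ∀ v, Q (G v) = Q v := by
    intro v
    have h1 : q (P (g (P v))) = τ (q (P v)) := by
      rw [← hval _ (hPu v)]
      conv_rhs => rw [hgP _ (hPu v)]
      rw [Q_add, QuadraticMap.map_smul, hu, polar_smul_right, polar_comm q _ u, hPu]
      simp
    have e1 : q (G v) = τ (q v) := by
      rw [hG, hqdec _ _ _ (hPu _) (hPu' _), h1]
      conv_rhs => rw [hdec v, hqdec _ _ _ (hPu _) (hPu' _)]
      rw [map_add, map_mul]
      field_simp
    rw [hT, hT, e1, trace_algEquiv]
  have hGinj : Function.Injective G := by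
    rw [injective_iff_map_eq_zero]
    intro v hv
    apply h.good.nondeg
    intro w
    have : polar Q v w = polar Q (G v) (G w) := by
      simp only [QuadraticMap.polar, ← map_add, hGQ]
    rw [this, hv, polar_zero_left]
  let g₀ : V ≃ₗ[F] V := LinearEquiv.ofInjectiveEndo G hGinj
  have hg₀ : ∀ v, g₀ v = G v := fun _ => rfl
  have hg₀O : g₀ ∈ O Q := fun v => hGQ v
  have hg₀N : g₀ ∈ NK F K V := by
    refine ⟨τ, fun c v => ?_⟩
    rw [hg₀, hg₀, hG, hG]
    have e1 : P (g (P (c • v))) = τ c • P (g (P v)) := by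
      rw [map_smul]
      obtain ⟨e, he⟩ := hmod c (P v) (hPu v)
      rw [he, map_add, map_smul]
      have : P (e • u) = 0 := by
        rw [hP, polar_smul_right, polar_smul_right, hyp.pair', hyp.polar_left]
        simp
      rw [this, add_zero]
    rw [e1, polar_smul_right, polar_smul_right, smul_eq_mul, smul_eq_mul, map_mul, map_mul]
    module
  have hg₀u : ∀ c : K, g₀ (c • u) = g (c • u) := by
    intro c
    rw [hg₀, hG, hγ]
    have e1 : P (c • u) = 0 := by
      rw [hP, polar_smul_right, polar_smul_right, hyp.pair', hyp.polar_left]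
      simp
    rw [e1, map_zero, map_zero, polar_smul_right, polar_smul_right, hyp.pair', hyp.polar_left,
      smul_eq_mul, smul_eq_mul, mul_one, mul_zero, map_zero, zero_mul, zero_smul, add_zero,
      add_zero, hτγ c]
  have hinv0 : ∀ v, g₀⁻¹ (g₀ v) = v := fun v => g₀.symm_apply_apply v
  have hinv0' : ∀ v, g₀ (g₀⁻¹ v) = v := fun v => g₀.apply_symm_apply v
  have hRad : Rad q u (g₀⁻¹ * g) := by
    constructor
    · intro c
      change g₀⁻¹ (g (c • u)) = c • u
      rw [← hg₀u, hinv0]
    · intro w hw
      change ∃ c : K, g₀⁻¹ (g w) = w + c • u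
      -- `g w - g₀ w` is in the line
      obtain ⟨e, he⟩ : ∃ e : K, g w = g₀ w + e • u := by
        have hw1 : w = polar q u' w • u + P w := by
          conv_lhs => rw [hdec w, hw, zero_smul, add_zero]
        have h1 : g w = g (polar q u' w • u) + g (P w) := by
          conv_lhs => rw [hw1, map_add]
        have h3 : g₀ w = g (polar q u' w • u) + P (g (P w)) := by
          conv_lhs => rw [hw1, map_add, hg₀u]
          congr 1
          rw [hg₀, hG]
          have e1 : P (P w) = P w := by
            rw [hP (P w), hPu, hPu', zero_smul, zero_smul, sub_zero, sub_zero]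
          rw [e1, hPu, hPu', map_zero, zero_mul, zero_mul, zero_smul, zero_smul, zero_add, add_zero]
        refine ⟨polar q u' (g (P w)), ?_⟩
        rw [h1, h3, add_assoc]
        congr 1
        exact hgP _ (hPu w)
      obtain ⟨d, hd⟩ := hsurj e
      refine ⟨d, ?_⟩
      rw [he, ← hd, ← hg₀u, map_add, hinv0, hinv0]
  have hρO : g₀⁻¹ * g ∈ O Q := (O Q).mul_mem ((O Q).inv_mem hg₀O) hgO
  have hρE : g₀⁻¹ * g ∈ E Q := hRad.mem_E hT h.good hp hρO
  have hg₀E : g₀ ∈ E Q := by
    have : g₀ = g * (g₀⁻¹ * g)⁻¹ := by group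
    rw [this]
    exact (E Q).mul_mem (h.le hg) ((E Q).inv_mem hρE)
  have hg₀H : g₀ ∈ H := h.mem _ hg₀E hg₀N
  obtain ⟨x, hx, he⟩ := hthin _ (H.mul_mem (H.inv_mem hg₀H) hg) hRad
  have : g = g₀ * res F (T q u x) := by rw [← he]; group
  rw [this]
  exact (NK F K V).mul_mem hg₀N (res_mem_NK _)

end

end Cfsg.Agent.H923.KF
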