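import Mathlib
import Cfsg.Agent.H923.NotThin

/-!
The case of characteristic three and degree three: the trace lemma with nontrivial intersections.
-/

set_option autoImplicit false
set_option linter.unusedSectionVars false

namespace Cfsg.Agent.H923

open scoped Classical in
/-- **The trace lemma**, the general version: the group `E` may meet the conjugates of `M`. -/
theorem green2 {G X : Type*} [Group G] [Finite G] [AddCommGroup X] [Finite X] {p : ℕ}
    [Fact p.Prime] (ρ : G →* AddMonoid.End X) (M E : Subgroup G)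
    (hE : IsPGroup p E) (hp : ∀ x : X, p • x = 0) (hEM : E ≤ M)
    (hC : ∀ a : G, a ∉ M → ∃ C : Finset G, (∀ c ∈ C, c ∈ E) ∧
      (∀ c ∈ C, ∀ c' ∈ C, (c * a)⁻¹ * (c' * a) ∈ M → c = c') ∧
      (∀ y ∈ E, ∃ c ∈ C, (y * a)⁻¹ * (c * a) ∈ M) ∧
      ∀ x : X, (∀ d ∈ E, a⁻¹ * d * a ∈ M → ρ d x = x) → ∑ c ∈ C, ρ c x = 0)
    (π : X →+ X) (hπ : ∀ x, π (π x) = π x) (hπM : ∀ m ∈ M, ∀ x, π (ρ m x) = ρ m (π x))
    (h2 : ∀ x, π x ∈ AddSubgroup.closure
      {z | ∃ m ∈ M, ∃ x, π x = x ∧ (∀ y ∈ E, ρ y x = x) ∧ z = ρ m x})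
    (g : G) (x : X) : π (ρ g (π x)) = ρ g (π x) := by
  have := Fintype.ofFinite (G ⧸ M)
  have hmul : ∀ (a b : G) (x : X), ρ (a * b) x = ρ a (ρ b x) := by
    intro a b x
    rw [map_mul]
    rfl
  have hone : ∀ x : X, ρ 1 x = x := by
    intro x
    rw [map_one]
    rfl
  have hinv : ∀ (a : G) (x : X), ρ a (ρ a⁻¹ x) = x := by
    intro a x
    rw [← hmul, mul_inv_cancel, hone]
  have hinv' : ∀ (a : G) (x : X), ρ a⁻¹ (ρ a x) = x := by
    intro a x
    rw [← hmul, inv_mul_cancel, hone]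
  -- the summand
  let φ : X → G ⧸ M → X := fun x => Quotient.lift (fun a : G => ρ a (π (ρ a⁻¹ x))) (by
    intro a b hab
    have h : a⁻¹ * b ∈ M := QuotientGroup.leftRel_apply.1 hab
    change ρ a (π (ρ a⁻¹ x)) = ρ b (π (ρ b⁻¹ x))
    have e1 : b = a * (a⁻¹ * b) := by group
    have e2 : b⁻¹ = (a⁻¹ * b)⁻¹ * a⁻¹ := by group
    rw [e2, hmul, hπM _ (M.inv_mem h), ← hmul]
    congr 1
    rw [mul_inv_rev, inv_inv, ← mul_assoc, mul_inv_cancel, one_mul])
  have hφ : ∀ (x : X) (a : G), φ x (a : G ⧸ M) = ρ a (π (ρ a⁻¹ x)) := fun _ _ => rfl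
  have hφs : ∀ (h : G) (x : X) (c : G ⧸ M), φ (ρ h x) (h • c) = ρ h (φ x c) := by
    intro h x c
    obtain ⟨a, rfl⟩ := QuotientGroup.mk_surjective c
    have e1 : h • ((a : G) : G ⧸ M) = ((h * a : G) : G ⧸ M) := rfl
    rw [e1, hφ, hφ, ← hmul, mul_inv_rev, inv_mul_cancel_right, hmul h a]
  have hφadd : ∀ (x x' : X) (c : G ⧸ M), φ (x + x') c = φ x c + φ x' c := by
    intro x x' c
    obtain ⟨a, rfl⟩ := QuotientGroup.mk_surjective c
    simp only [hφ, map_add]
  -- the trace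
  let T : X →+ X :=
    { toFun := fun x => ∑ c : G ⧸ M, φ x c
      map_zero' := by
        apply Finset.sum_eq_zero
        intro c _
        obtain ⟨a, rfl⟩ := QuotientGroup.mk_surjective c
        simp only [hφ, map_zero]
      map_add' := fun x x' => by
        rw [← Finset.sum_add_distrib]
        exact Finset.sum_congr rfl fun c _ => hφadd x x' c }
  have hT : ∀ x, T x = ∑ c : G ⧸ M, φ x c := fun _ => rfl
  have hTg : ∀ (h : G) (x : X), T (ρ h x) = ρ h (T x) := by
    intro h x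
    rw [hT, hT, map_sum, ← Equiv.sum_comp (MulAction.toPerm h)]
    exact Finset.sum_congr rfl fun c _ => hφs h x c
  -- on `E`-fixed vectors the trace is `π`
  have hTfix : ∀ x : X, (∀ y ∈ E, ρ y x = x) → T x = π x := by
    intro x hx
    have hinvφ : ∀ y ∈ E, ∀ c : G ⧸ M, φ x (y • c) = ρ y (φ x c) := by
      intro y hy c
      rw [← hφs y x c, hx y hy]
    rw [hT, ← Finset.add_sum_erase Finset.univ _ (Finset.mem_univ ((1 : G) : G ⧸ M))]
    have e1 : φ x ((1 : G) : G ⧸ M) = π x := by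
      rw [hφ, inv_one, hone, hone]
    rw [e1]
    have e2 : ∑ c ∈ Finset.univ.erase ((1 : G) : G ⧸ M), φ x c = 0 := by
      -- sum over the orbits of `E`
      rw [← Finset.sum_fiberwise_of_maps_to (s := Finset.univ.erase ((1 : G) : G ⧸ M))
        (t := Finset.univ) (g := fun c => (Quotient.mk (MulAction.orbitRel E (G ⧸ M)) c))
        (fun _ _ => Finset.mem_univ _)]
      apply Finset.sum_eq_zero
      intro o _
      obtain ⟨c₀, rfl⟩ := Quotient.exists_rep o
      by_cases hc₀ : c₀ = ((1 : G) : G ⧸ M)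
      · -- the orbit of the base point is the base point
        apply Finset.sum_eq_zero
        intro c hc
        exfalso
        rw [Finset.mem_filter, Finset.mem_erase] at hc
        obtain ⟨⟨hc1, -⟩, hc2⟩ := hc
        have h3 : c ∈ MulAction.orbit E c₀ := Quotient.exact hc2
        obtain ⟨y, rfl⟩ := h3
        apply hc1
        subst hc₀
        change ((((y : G) * 1 : G)) : G ⧸ M) = _
        rw [QuotientGroup.eq, mul_one, mul_one]
        exact M.inv_mem (hEM y.2)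
      · obtain ⟨a, rfl⟩ := QuotientGroup.mk_surjective c₀
        have ha : a ∉ M := by
          intro ha
          apply hc₀
          rw [QuotientGroup.eq, mul_one]
          exact M.inv_mem ha
        obtain ⟨C, hCE, hCi, hCs, hC0⟩ := hC a ha
        have hset : (Finset.univ.erase ((1 : G) : G ⧸ M)).filter
            (fun c => (Quotient.mk (MulAction.orbitRel E (G ⧸ M)) c) =
              Quotient.mk (MulAction.orbitRel E (G ⧸ M)) ((a : G) : G ⧸ M)) =
            C.image (fun y : G => y • ((a : G) : G ⧸ M)) := by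
          ext c
          rw [Finset.mem_filter, Finset.mem_erase, Finset.mem_image]
          constructor
          · rintro ⟨-, hc2⟩
            have h3 : c ∈ MulAction.orbit E ((a : G) : G ⧸ M) := Quotient.exact hc2
            obtain ⟨y, rfl⟩ := h3
            obtain ⟨c', hc', hyc⟩ := hCs y y.2
            refine ⟨c', hc', ?_⟩
            change (((c' * a : G)) : G ⧸ M) = ((((y : G) * a : G)) : G ⧸ M)
            rw [QuotientGroup.eq]
            have e5 : (c' * a)⁻¹ * ((y : G) * a) = (((y : G) * a)⁻¹ * (c' * a))⁻¹ := by group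
            rw [e5]
            exact M.inv_mem hyc
          · rintro ⟨y, hyC, rfl⟩
            refine ⟨⟨?_, Finset.mem_univ _⟩, Quotient.sound ⟨⟨y, hCE y hyC⟩, rfl⟩⟩
            intro h3
            apply hc₀
            have h4 : ((a : G) : G ⧸ M) = (y⁻¹) • ((1 : G) : G ⧸ M) := by
              rw [← h3, inv_smul_smul]
            rw [h4]
            change (((y⁻¹ * 1 : G)) : G ⧸ M) = _
            rw [QuotientGroup.eq, mul_one, mul_one, inv_inv]
            exact hEM (hCE y hyC)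
        rw [hset, Finset.sum_image]
        · rw [Finset.sum_congr rfl fun y hy => hinvφ y (hCE y hy) ((a : G) : G ⧸ M)]
          apply hC0
          intro d hd hda
          rw [← hinvφ d hd]
          congr 1
          change (((d * a : G)) : G ⧸ M) = _
          rw [QuotientGroup.eq]
          have e5 : (d * a)⁻¹ * a = (a⁻¹ * d * a)⁻¹ := by group
          rw [e5]
          exact M.inv_mem hda
        · intro y hy y' hy' hyy
          have h3 : (((y * a : G)) : G ⧸ M) = ((y' * a : G) : G ⧸ M) := hyy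
          rw [QuotientGroup.eq] at h3
          exact hCi y hy y' hy' h3
    rw [e2, add_zero]
  -- the trace is the identity on the `G`-submodule generated by `π X`
  have hTπ : ∀ x, T (π x) = π x := by
    intro x
    have key : AddSubgroup.closure
        {z | ∃ m ∈ M, ∃ x, π x = x ∧ (∀ y ∈ E, ρ y x = x) ∧ z = ρ m x} ≤
        (T - AddMonoidHom.id X).ker := by
      rw [AddSubgroup.closure_le]
      rintro _ ⟨m, hm, x, hx, hxE, rfl⟩
      rw [SetLike.mem_coe, AddMonoidHom.mem_ker, AddMonoidHom.sub_apply, AddMonoidHom.id_apply,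
        hTg, hTfix x hxE, hx, sub_self]
    have h3 := key (h2 x)
    rwa [AddMonoidHom.mem_ker, AddMonoidHom.sub_apply, AddMonoidHom.id_apply, sub_eq_zero] at h3
  let Y : AddSubgroup X := AddSubgroup.closure {z | ∃ (g : G) (x : X), z = ρ g (π x)}
  have hYT : ∀ y ∈ Y, T y = y := by
    have key : Y ≤ (T - AddMonoidHom.id X).ker := by
      rw [AddSubgroup.closure_le]
      rintro _ ⟨g, x, rfl⟩
      rw [SetLike.mem_coe, AddMonoidHom.mem_ker, AddMonoidHom.sub_apply, AddMonoidHom.id_apply,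
        hTg, hTπ, sub_self]
    intro y hy
    have h3 := key hy
    rwa [AddMonoidHom.mem_ker, AddMonoidHom.sub_apply, AddMonoidHom.id_apply, sub_eq_zero] at h3
  have hYρ : ∀ (g : G), ∀ y ∈ Y, ρ g y ∈ Y := by
    intro g y hy
    have key : Y ≤ Y.comap (ρ g : X →+ X) := by
      rw [AddSubgroup.closure_le]
      rintro _ ⟨g', x, rfl⟩
      change ρ g (ρ g' (π x)) ∈ Y
      rw [← hmul]
      exact AddSubgroup.subset_closure ⟨_, _, rfl⟩
    exact key hy
  -- the part killed by `π`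
  have hker : ∀ y ∈ Y, π y = 0 → y = 0 := by
    by_contra hcon
    push Not at hcon
    obtain ⟨y₀, hy₀, hπy₀, hne⟩ := hcon
    let Z : AddSubgroup X := Y ⊓ π.ker
    have hZE : ∀ y ∈ E, ∀ z ∈ Z, ρ y z ∈ Z := by
      rintro y hy z ⟨hz1, hz2⟩
      refine ⟨hYρ y z hz1, ?_⟩
      have hz2' : π z = 0 := hz2
      change π (ρ y z) = 0
      rw [hπM y (hEM hy), hz2', map_zero]
    letI : MulAction E Z :=
      { smul := fun y z => ⟨ρ (y : G) (z : X), hZE y y.2 z z.2⟩
        one_smul := fun z => Subtype.ext (hone z)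
        mul_smul := fun a b z => Subtype.ext (hmul a b z) }
    have hcard : p ∣ Nat.card Z := by
      have hZne : (⟨y₀, hy₀, hπy₀⟩ : Z) ≠ 0 := fun h => hne (congrArg Subtype.val h)
      have h3 : addOrderOf (⟨y₀, hy₀, hπy₀⟩ : Z) = p := by
        apply addOrderOf_eq_prime _ hZne
        apply Subtype.ext
        exact hp y₀
      rw [← h3]
      exact addOrderOf_dvd_natCard _
    obtain ⟨z, hz, hz0⟩ := hE.exists_fixed_point_of_prime_dvd_card_of_fixed_point Z hcard
      (a := 0) (by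
        intro y
        apply Subtype.ext
        exact map_zero (ρ (y : G)))
    have hzfix : ∀ y ∈ E, ρ y (z : X) = z := fun y hy => congrArg Subtype.val (hz ⟨y, hy⟩)
    have h3 := hTfix z hzfix
    rw [hYT z z.2.1] at h3
    have h4 : π (z : X) = 0 := z.2.2
    rw [h4] at h3
    exact hz0 (Subtype.ext h3.symm)
  have hgx : ρ g (π x) ∈ Y := AddSubgroup.subset_closure ⟨g, x, rfl⟩
  have hπY : ∀ x, π x ∈ Y := fun x => AddSubgroup.subset_closure ⟨1, x, (hone _).symm⟩
  have h3 := hker (ρ g (π x) - π (ρ g (π x))) (Y.sub_mem hgx (hπY _)) (by rw [map_sub, hπ, sub_self])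
  exact (sub_eq_zero.1 h3).symm


/-- The general trace lemma, with plain functions. -/
theorem green2_fun {G X : Type*} [Group G] [Finite G] [AddCommGroup X] [Finite X] {p : ℕ}
    [Fact p.Prime] (ρ : G → X → X) (hadd : ∀ g x y, ρ g (x + y) = ρ g x + ρ g y)
    (hone : ∀ x, ρ 1 x = x) (hmul : ∀ g h x, ρ (g * h) x = ρ g (ρ h x))
    (M E : Subgroup G)
    (hE : IsPGroup p E) (hp : ∀ x : X, p • x = 0) (hEM : E ≤ M)
    (hC : ∀ a : G, a ∉ M → ∃ C : Finset G, (∀ c ∈ C, c ∈ E) ∧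
      (∀ c ∈ C, ∀ c' ∈ C, (c * a)⁻¹ * (c' * a) ∈ M → c = c') ∧
      (∀ y ∈ E, ∃ c ∈ C, (y * a)⁻¹ * (c * a) ∈ M) ∧
      ∀ x : X, (∀ d ∈ E, a⁻¹ * d * a ∈ M → ρ d x = x) → ∑ c ∈ C, ρ c x = 0)
    (π : X → X) (hπadd : ∀ x y, π (x + y) = π x + π y) (hπ : ∀ x, π (π x) = π x)
    (hπM : ∀ m ∈ M, ∀ x, π (ρ m x) = ρ m (π x))
    (h2 : ∀ S : AddSubgroup X, (∀ m ∈ M, ∀ x, π x = x → (∀ y ∈ E, ρ y x = x) → ρ m x ∈ S) →
      ∀ x, π x ∈ S)
    (g : G) (x : X) : π (ρ g (π x)) = ρ g (π x) := by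
  let ρ' : G →* AddMonoid.End X :=
    { toFun := fun g => AddMonoidHom.mk' (ρ g) (hadd g)
      map_one' := by ext x; exact hone x
      map_mul' := fun g h => by ext x; exact hmul g h x }
  let π' : X →+ X := AddMonoidHom.mk' π hπadd
  refine green2 ρ' M E hE hp hEM hC π' hπ hπM ?_ g x
  refine h2 _ ?_
  intro m hm x hx1 hx2
  exact AddSubgroup.subset_closure ⟨m, hm, x, hx1, hx2, rfl⟩

end Cfsg.Agent.H923

namespace Cfsg.Agent.H923.KF

open QuadraticMap Module Cfsg.Agent.LieClassical.OrthCore Cfsg.Agent.LieClassical.OrthTrans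
  Cfsg.Agent.LieClassical.OrthSimple Cfsg.Agent.ClassicalGeometry.OrthAutBasic
open scoped commutatorElement

/-- The general trace lemma for bilinear forms. -/
theorem green2_BF {G F V : Type*} [Field F] [AddCommGroup V] [Module F V] [Group G] [Finite G]
    [Finite (BF F V)] {p : ℕ} [Fact p.Prime] (ρ : G → BF F V → BF F V)
    (hadd : ∀ g x y, ρ g (x + y) = ρ g x + ρ g y)
    (hone : ∀ x, ρ 1 x = x) (hmul : ∀ g h x, ρ (g * h) x = ρ g (ρ h x))
    (M E : Subgroup G)
    (hE : IsPGroup p E) (hp : ∀ x : BF F V, p • x = 0) (hEM : E ≤ M)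
    (hC : ∀ a : G, a ∉ M → ∃ C : Finset G, (∀ c ∈ C, c ∈ E) ∧
      (∀ c ∈ C, ∀ c' ∈ C, (c * a)⁻¹ * (c' * a) ∈ M → c = c') ∧
      (∀ y ∈ E, ∃ c ∈ C, (y * a)⁻¹ * (c * a) ∈ M) ∧
      ∀ x : BF F V, (∀ d ∈ E, a⁻¹ * d * a ∈ M → ρ d x = x) → ∑ c ∈ C, ρ c x = 0)
    (π : BF F V → BF F V) (hπadd : ∀ x y, π (x + y) = π x + π y) (hπ : ∀ x, π (π x) = π x)
    (hπM : ∀ m ∈ M, ∀ x, π (ρ m x) = ρ m (π x))
    (h2 : ∀ S : AddSubgroup (BF F V),
      (∀ m ∈ M, ∀ x, π x = x → (∀ y ∈ E, ρ y x = x) → ρ m x ∈ S) → ∀ x, π x ∈ S)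
    (g : G) (x : BF F V) : π (ρ g (π x)) = ρ g (π x) :=
  green2_fun ρ hadd hone hmul M E hE hp hEM hC π hπadd hπ hπM h2 g x

variable {F K V : Type*} [Field F] [Field K] [Algebra F K] [AddCommGroup V] [Module F V]
  [Module K V] [IsScalarTower F K V] {q : QuadraticForm K V} {Q : QuadraticForm F V}
  {H : Subgroup (V ≃ₗ[F] V)} [Finite K] [FiniteDimensional F V]

/-- If a conjugate of a `K`-Siegel map is `K`-linear then the conjugating element normalises `K`. -/
theorem Over.star_lin (h : Over q Q H) {p : ℕ} [Fact p.Prime] [CharP F p] (hp : p ≠ 2)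
    (hK : 3 ≤ finrank K V)
    {u : V} (hu : q u = 0) (hu0 : u ≠ 0) (hthin : Thin q H u) {x : V} (hx : polar q u x = 0)
    (hqx : q x ≠ 0) {g : V ≃ₗ[F] V} (hg : g ∈ H)
    (hlin : ∀ (c : K) (v : V), (g⁻¹ * res F (T q u x) * g) (c • v) =
      c • (g⁻¹ * res F (T q u x) * g) v) :
    g ∈ NK F K V := by
  have hT := h.tr
  have hq := h.nondeg
  have hgO := h.leO hg
  have : CharP K p := charP_of_injective_algebraMap (algebraMap F K).injective p
  have h2 : (2 : K) ≠ 0 := CharP.cast_ne_zero_of_ne_of_prime K Nat.prime_two hp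
  obtain ⟨u', hyp⟩ := exists_hyp hq hu hu0
  have hgg : ∀ v : V, g (g⁻¹ v) = v := fun v => g.apply_symm_apply v
  have hgg' : ∀ v : V, g⁻¹ (g v) = v := fun v => g.symm_apply_apply v
  set y : V ≃ₗ[F] V := g⁻¹ * res F (T q u x) * g with hy
  have hya : ∀ v, y v = g⁻¹ (T q u x (g v)) := fun _ => rfl
  have hysq : ∀ v, y (y v - v) - (y v - v) = g⁻¹ ((-(2 * q x * polar q u (g v))) • u) := by
    intro v
    have e1 : y v - v = g⁻¹ (T q u x (g v) - g v) := by rw [hya, map_sub, hgg']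
    rw [e1, hya, hgg, ← map_sub, T_sub_sq hu hx]
  set u₁ : V := g⁻¹ u with hu₁
  have hu₁0 : u₁ ≠ 0 := by
    intro h0
    apply hu0
    rw [← hgg u, ← hu₁, h0, map_zero]
  have hτc : ∀ (c : K) (v : V), y (c • v) = c • y v := hlin
  -- the image of the square
  set v₁ : V := (-(2 * q x))⁻¹ • u' with hv₁
  have hv₁u : -(2 * q x * polar q u v₁) = 1 := by
    rw [hv₁, polar_smul_right, hyp.pair, smul_eq_mul, mul_one]
    have : (2 * q x) ≠ 0 := mul_ne_zero h2 hqx
    field_simp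
  have hline : ∀ d : K, ∃ c : K, d • u₁ = g⁻¹ (c • u) := by
    intro d
    have h4 := hysq (d • g⁻¹ v₁)
    refine ⟨_, Eq.trans ?_ h4⟩
    have h5 := hysq (g⁻¹ v₁)
    rw [hgg, hv₁u, one_smul] at h5
    rw [← hu₁] at h5
    rw [hτc, ← smul_sub, hτc, ← smul_sub, h5]
  have hline' : ∀ c : K, ∃ d : K, g⁻¹ (c • u) = d • u₁ := by
    choose t ht using hline
    have hinj : Function.Injective t := by
      intro a b hab
      have h4 : a • u₁ = b • u₁ := by rw [ht, ht, hab]
      rw [← sub_eq_zero, ← sub_smul] at h4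
      exact sub_eq_zero.1 ((smul_eq_zero.1 h4).resolve_right hu₁0)
    intro c
    obtain ⟨d, hd⟩ := (Finite.injective_iff_surjective.1 hinj) c
    exact ⟨d, by rw [ht, hd]⟩
  have hu₁s : q u₁ = 0 := by
    apply hT.sing h2
    intro d
    obtain ⟨c, hc⟩ := hline d
    rw [hc, mem_O.1 ((O Q).inv_mem hgO), hT.sing_smul hu]
  obtain ⟨z, w, e, he, hmove⟩ := exists_T_move hq hK hu hu₁s hu0 hu₁0
  have hm : res F (T q z w) ∈ H := h.T_mem hp z w
  have hN := h.stab hp hK hu hu0 hthin (H.mul_mem hm (H.inv_mem hg)) (by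
    intro c
    obtain ⟨d, hd⟩ := hline' c
    refine ⟨d * e, ?_⟩
    change T q z w (g⁻¹ (c • u)) = _
    rw [hd, map_smul, hmove, smul_smul])
  have e1 : g = (res F (T q z w) * g⁻¹)⁻¹ * res F (T q z w) := by group
  rw [e1]
  exact (NK F K V).mul_mem ((NK F K V).inv_mem hN) (res_mem_NK _)


end Cfsg.Agent.H923.KF
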