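import Mathlib
import Cfsg.Agent.H923.Three

/-!
The case of characteristic three and degree three: sums over complements.
-/

set_option autoImplicit false
set_option linter.unusedSectionVars false

namespace Cfsg.Agent.H923.KF

open QuadraticMap Module Cfsg.Agent.LieClassical.OrthCore Cfsg.Agent.LieClassical.OrthTrans
  Cfsg.Agent.LieClassical.OrthSimple Cfsg.Agent.ClassicalGeometry.OrthAutBasic
open scoped commutatorElement

theorem PolyV.sum_eq_zero {F₀ σ X : Type*} [Field F₀] [AddCommGroup X] [Module F₀ X] [Fintype F₀]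
    [Fintype σ] [DecidableEq σ] {d : ℕ} {f : (σ → F₀) → X} (hf : PolyV d f)
    (hd : d < (Fintype.card F₀ - 1) * Fintype.card σ) : ∑ x, f x = 0 := by
  rw [← Module.forall_dual_apply_eq_zero_iff F₀]
  intro φ
  rw [map_sum]
  exact (hf φ).sum_eq_zero hd

section SumT

variable {F K V : Type*} [Field F] [Field K] [Algebra F K] [AddCommGroup V] [Module F V]
  [Module K V] [IsScalarTower F K V] {q : QuadraticForm K V}

/-- Sums over transvection groups, for bilinear forms vanishing on `K u`, over a subfield. -/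
theorem sum_T_eq_zero' {F₀ : Type*} [Field F₀] [Algebra F₀ K] [Algebra F₀ F] [Module F₀ V]
    [IsScalarTower F₀ K V] [IsScalarTower F₀ F V] [Fintype F₀] [FiniteDimensional F₀ V]
    [FiniteDimensional F₀ K]
    (h2 : (2 : K) ≠ 0) {A : Type*}
    [AddCommGroup A] [Module F₀ A] [FiniteDimensional F₀ A] [Fintype A]
    (hA : 3 < (Fintype.card F₀ - 1) * finrank F₀ A) {u : V} (hu : q u = 0)
    (θ : A →ₗ[F₀] V) (hθ : ∀ a, polar q u (θ a) = 0) (B : BF F V)
    (hB : ∀ c d : K, B (c • u) (d • u) = 0) (v w : V) :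
    ∑ a : A, B (T q u (θ a) v) (T q u (θ a) w) = 0 := by
  classical
  let b := Module.finBasis F₀ A
  let e : A ≃ₗ[F₀] (Fin (finrank F₀ A) → F₀) := b.equivFun
  have h1 : ∑ a : A, B (T q u (θ a) v) (T q u (θ a) w) =
      ∑ x : Fin (finrank F₀ A) → F₀, B (T q u (θ (e.symm x)) v) (T q u (θ (e.symm x)) w) :=
    (Fintype.sum_equiv e.symm.toEquiv _ _ fun x => rfl).symm
  rw [h1]
  let L : (Fin (finrank F₀ A) → F₀) →ₗ[F₀] V := θ.comp e.symm.toLinearMap
  have hL : ∀ x, L x = θ (e.symm x) := fun x => rfl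
  let P : V →ₗ[F₀] V →ₗ[F₀] K := LinearMap.mk₂ F₀ (fun v w => polar q v w)
    (fun a b c => polar_add_left q a b c)
    (fun r a c => by
      rw [← algebraMap_smul K r a, polar_smul_left, smul_eq_mul, Algebra.smul_def r])
    (fun a b c => polar_add_right q a b c)
    (fun r a c => by
      rw [← algebraMap_smul K r c, polar_smul_right, smul_eq_mul, Algebra.smul_def r])
  have hP : ∀ v w, P v w = polar q v w := fun v w => rfl
  let B' : V →ₗ[F₀] V →ₗ[F₀] F := LinearMap.mk₂ F₀ (fun v w => B v w)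
    (fun a b c => by rw [map_add, LinearMap.add_apply])
    (fun r a c => by
      rw [← algebraMap_smul F r a, map_smul, LinearMap.smul_apply, algebraMap_smul])
    (fun a b c => by rw [map_add])
    (fun r a c => by
      rw [← algebraMap_smul F r c, map_smul, algebraMap_smul])
  have hB' : ∀ v w, B' v w = B v w := fun v w => rfl
  let S : K →ₗ[F₀] V := (LinearMap.toSpanSingleton K V u).restrictScalars F₀
  have hS : ∀ c, S c = c • u := fun c => rfl
  have hLp : PolyV 1 (fun x : Fin (finrank F₀ A) → F₀ => L x) := PolyV.lin L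
  -- the two parts
  let f₁ : V → (Fin (finrank F₀ A) → F₀) → V := fun v x =>
    v + polar q u v • L x - polar q (L x) v • u
  let f₂ : V → (Fin (finrank F₀ A) → F₀) → V := fun v x =>
    (-((2 : K)⁻¹ * polar q (L x) (L x) * polar q u v)) • u
  have hf₁ : ∀ v, PolyV 1 (f₁ v) := by
    intro v
    refine PolyV.sub (PolyV.add (PolyV.const 1 v) ?_) ?_
    · exact hLp.map (Algebra.lsmul F₀ F₀ V (polar q u v))
    · exact hLp.map (S.comp (P.flip v))
  have hf₂ : ∀ v, PolyV 2 (f₂ v) := by
    intro v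
    have h4 : PolyV 2 (fun x : Fin (finrank F₀ A) → F₀ => P (L x) (L x)) := hLp.bilin hLp P
    refine (h4.map (S.comp (LinearMap.mulLeft F₀ (-((2 : K)⁻¹ * polar q u v))))).congr
      fun x => ?_
    rw [LinearMap.comp_apply, hS, hP, LinearMap.mulLeft_apply]
    change _ = (-((2 : K)⁻¹ * polar q (L x) (L x) * polar q u v)) • u
    congr 1
    ring
  have hT : ∀ (v : V) (x : Fin (finrank F₀ A) → F₀), T q u (θ (e.symm x)) v = f₁ v x + f₂ v x := by
    intro v x
    change _ = (v + polar q u v • L x - polar q (L x) v • u) +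
      (-((2 : K)⁻¹ * polar q (L x) (L x) * polar q u v)) • u
    rw [T_apply hu (hθ _), ← hL, polar_self', ← mul_assoc, inv_mul_cancel₀ h2, one_mul, neg_smul,
      sub_eq_add_neg]
  have key : PolyV 3 (fun x : Fin (finrank F₀ A) → F₀ =>
      B (T q u (θ (e.symm x)) v) (T q u (θ (e.symm x)) w)) := by
    have h3 : PolyV 3 (fun x : Fin (finrank F₀ A) → F₀ =>
        B' (f₁ v x) (f₁ w x) + B' (f₁ v x) (f₂ w x) + B' (f₂ v x) (f₁ w x)) :=
      (((hf₁ v).bilin (hf₁ w) B').mono (by norm_num) |>.add ((hf₁ v).bilin (hf₂ w) B')).add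
        ((hf₂ v).bilin (hf₁ w) B')
    refine h3.congr fun x => ?_
    have h5 : B (f₂ v x) (f₂ w x) = 0 := hB _ _
    have h6 : ∀ a b c d : V, B (a + b) (c + d) = B a c + B a d + B b c + B b d := by
      intro a b c d
      rw [map_add B a b, LinearMap.add_apply, map_add (B a) c d, map_add (B b) c d]
      ring
    rw [hT, hT, h6, h5, add_zero, hB', hB', hB']
  refine key.sum_eq_zero ?_
  rw [Fintype.card_fin]
  exact hA

/-- Bilinear forms invariant under a `K`-Siegel map vanish on `K u`. -/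
theorem BF_line_eq_zero [Finite K] (h2 : (2 : K) ≠ 0) {u u' x : V} (hyp : Hyp q u u') (hx : polar q u x = 0)
    (hqx : q x ≠ 0) (B : BF F V)
    (hB : ∀ v w, B (T q u x v) (T q u x w) = B v w) (c d : K) : B (c • u) (d • u) = 0 := by
  have hu := hyp.left
  set v : V := (-(2 * q x)⁻¹ * c) • u' with hv
  have h1 := T_sub_sq hu hx v
  have h3 : (-(2 * q x * polar q u v)) = c := by
    rw [hv, polar_smul_right, hyp.pair, smul_eq_mul, mul_one]
    have : (2 * q x) ≠ 0 := mul_ne_zero h2 hqx
    field_simp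
  rw [h3] at h1
  rw [← h1, map_sub, LinearMap.sub_apply, sub_eq_zero]
  conv_rhs => rw [← hB]
  rw [map_smul (T q u x) d u, T_apply_self hu hx]

end SumT

end Cfsg.Agent.H923.KF
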