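import Mathlib
import Cfsg.Agent.H923.ThreeSum

/-!
The case of characteristic three and degree three: thin overgroups normalise `K`.
-/

set_option autoImplicit false
set_option linter.unusedSectionVars false

namespace Cfsg.Agent.H923.KF

open QuadraticMap Module Cfsg.Agent.LieClassical.OrthCore Cfsg.Agent.LieClassical.OrthTrans
  Cfsg.Agent.LieClassical.OrthSimple Cfsg.Agent.ClassicalGeometry.OrthAutBasic
open scoped commutatorElement

theorem order_three {G : Type*} [Group G] (hG : Nat.card G = 3) {a b : G} (ha : a ≠ 1)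
    (hb : b ≠ 1) : a * b = 1 ∨ a = b := by
  classical
  by_contra hcon
  push Not at hcon
  obtain ⟨h1, h2⟩ := hcon
  have : Finite G := Nat.finite_of_card_ne_zero (by rw [hG]; norm_num)
  have := Fintype.ofFinite G
  have hs : ({1, a, b, a * b} : Finset G).card = 4 := by
    rw [Finset.card_insert_of_notMem, Finset.card_insert_of_notMem, Finset.card_insert_of_notMem,
      Finset.card_singleton]
    · simp only [Finset.mem_singleton]
      intro h
      exact ha (mul_eq_right.1 h.symm)
    · simp only [Finset.mem_insert, Finset.mem_singleton]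
      rintro (h | h)
      · exact h2 h
      · exact hb (mul_eq_left.1 h.symm)
    · simp only [Finset.mem_insert, Finset.mem_singleton]
      rintro (h | h | h)
      · exact ha h.symm
      · exact hb h.symm
      · exact h1 h.symm
  have h3 := Finset.card_le_univ ({1, a, b, a * b} : Finset G)
  rw [hs, ← Nat.card_eq_fintype_card, hG] at h3
  omega

variable {F K V : Type*} [Field F] [Field K] [Algebra F K] [AddCommGroup V] [Module F V]
  [Module K V] [IsScalarTower F K V] {q : QuadraticForm K V} {Q : QuadraticForm F V}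
  {H : Subgroup (V ≃ₗ[F] V)}

/-- The transversal. -/
theorem Over.exists_C [Fintype K] [FiniteDimensional F V] (h : Over q Q H) {p : ℕ}
    [Fact p.Prime] [CharP F p] (hp : p ≠ 2) {u : V} (hu : q u = 0) (hu0 : u ≠ 0)
    (θ : K →+ V) (hθ : ∀ a, polar q u (θ a) = 0) (hθq : ∀ a, a ≠ 0 → q (θ a) ≠ 0)
    (a : ↥H) {A : Type*} [AddCommGroup A] [Fintype A] (ι : A →+ K)
    (hi : ∀ α, ((a⁻¹ * h.eps hp hu θ hθ (Multiplicative.ofAdd (ι α)) * a : ↥H) : V ≃ₗ[F] V) ∈
      NK F K V → α = 0)
    (hs : ∀ t : K, ∃ α, ((a⁻¹ * h.eps hp hu θ hθ (Multiplicative.ofAdd (t - ι α)) * a : ↥H) :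
      V ≃ₗ[F] V) ∈ NK F K V)
    (h0 : ∀ B : BF F V, (∀ t, ((a⁻¹ * h.eps hp hu θ hθ (Multiplicative.ofAdd t) * a : ↥H) :
      V ≃ₗ[F] V) ∈ NK F K V → ∀ v w, B (T q u (θ t) v) (T q u (θ t) w) = B v w) →
      ∀ v w, ∑ α : A, B (T q u (θ (ι α)) v) (T q u (θ (ι α)) w) = 0) :
    ∃ C : Finset ↥H, (∀ c ∈ C, c ∈ (h.eps hp hu θ hθ).range) ∧
      (∀ c ∈ C, ∀ c' ∈ C, (c * a)⁻¹ * (c' * a) ∈ (NK F K V).subgroupOf H → c = c') ∧
      (∀ y ∈ (h.eps hp hu θ hθ).range, ∃ c ∈ C, (y * a)⁻¹ * (c * a) ∈ (NK F K V).subgroupOf H) ∧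
      ∀ x : BF F V, (∀ d ∈ (h.eps hp hu θ hθ).range, a⁻¹ * d * a ∈ (NK F K V).subgroupOf H →
        rhoB F V (d : V ≃ₗ[F] V) x = x) → ∑ c ∈ C, rhoB F V (c : V ≃ₗ[F] V) x = 0 := by
  classical
  set ε := h.eps hp hu θ hθ with hεd
  have hε : ∀ (t : K) (v : V), ((ε (Multiplicative.ofAdd t) : ↥H) : V ≃ₗ[F] V) v = T q u (θ t) v :=
    fun _ _ => rfl
  have hεinv : ∀ t : K, (ε (Multiplicative.ofAdd t))⁻¹ = ε (Multiplicative.ofAdd (-t)) := by
    intro t
    rw [← map_inv]
    rfl
  have hεmul : ∀ t t' : K, ε (Multiplicative.ofAdd t) * ε (Multiplicative.ofAdd t') =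
      ε (Multiplicative.ofAdd (t + t')) := by
    intro t t'
    rw [← map_mul]
    rfl
  have hinj : Function.Injective (fun α : A => ε (Multiplicative.ofAdd (ι α))) := by
    intro α β hαβ
    have h1 : Multiplicative.ofAdd (ι α) = Multiplicative.ofAdd (ι β) :=
      h.eps_injective hp hu hu0 θ hθ hθq hαβ
    have h3 : ι α = ι β := h1
    have h4 : α - β = 0 := by
      apply hi
      rw [map_sub, h3, sub_self]
      have : ε (Multiplicative.ofAdd 0) = 1 := map_one ε
      rw [this, mul_one, inv_mul_cancel]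
      exact (NK F K V).one_mem
    exact sub_eq_zero.1 h4
  refine ⟨Finset.univ.image (fun α : A => ε (Multiplicative.ofAdd (ι α))), ?_, ?_, ?_, ?_⟩
  · intro c hc
    obtain ⟨α, -, rfl⟩ := Finset.mem_image.1 hc
    exact ⟨_, rfl⟩
  · intro c hc c' hc' hcc
    obtain ⟨α, -, rfl⟩ := Finset.mem_image.1 hc
    obtain ⟨β, -, rfl⟩ := Finset.mem_image.1 hc'
    have h1 : (ε (Multiplicative.ofAdd (ι α)) * a)⁻¹ * (ε (Multiplicative.ofAdd (ι β)) * a) =
        a⁻¹ * ε (Multiplicative.ofAdd (ι (-α + β))) * a := by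
      rw [map_add, map_neg, ← hεmul, ← hεinv]
      group
    rw [h1] at hcc
    have h3 := hi (-α + β) hcc
    have h4 : β = α := by
      have := neg_add_eq_zero.1 h3
      exact this.symm
    rw [h4]
  · rintro _ ⟨t, rfl⟩
    obtain ⟨α, hα⟩ := hs t.toAdd
    refine ⟨ε (Multiplicative.ofAdd (ι α)), Finset.mem_image_of_mem _ (Finset.mem_univ _), ?_⟩
    have h1 : (ε t * a)⁻¹ * (ε (Multiplicative.ofAdd (ι α)) * a) =
        (a⁻¹ * ε (Multiplicative.ofAdd (t.toAdd - ι α)) * a)⁻¹ := by
      rw [sub_eq_neg_add, ← hεmul, ← hεinv]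
      change (ε t * a)⁻¹ * (ε (Multiplicative.ofAdd (ι α)) * a) =
        (a⁻¹ * ((ε (Multiplicative.ofAdd (ι α)))⁻¹ * ε t) * a)⁻¹
      group
    rw [h1]
    exact ((NK F K V).subgroupOf H).inv_mem hα
  · intro B hB
    rw [Finset.sum_image fun α _ β _ hαβ => hinj hαβ]
    have hB' : ∀ t, ((a⁻¹ * ε (Multiplicative.ofAdd t) * a : ↥H) : V ≃ₗ[F] V) ∈ NK F K V →
        ∀ v w, B (T q u (θ t) v) (T q u (θ t) w) = B v w := by
      intro t ht v w
      have h1 := hB (ε (Multiplicative.ofAdd t)) ⟨_, rfl⟩ ht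
      have h3 := LinearMap.congr_fun (LinearMap.congr_fun h1 (T q u (θ t) v)) (T q u (θ t) w)
      rw [rhoB_apply] at h3
      have h4 : ∀ v, ((ε (Multiplicative.ofAdd t) : ↥H) : V ≃ₗ[F] V)⁻¹ (T q u (θ t) v) = v := by
        intro v
        rw [← hε]
        exact LinearEquiv.symm_apply_apply _ v
      rw [h4, h4] at h3
      exact h3.symm
    have h1 := h0 B hB'
    ext v w
    rw [LinearMap.sum_apply, LinearMap.sum_apply, LinearMap.zero_apply, LinearMap.zero_apply]
    rw [← h1 v w]
    have e2 : ∀ α : A, rhoB F V ((ε (Multiplicative.ofAdd (ι α)) : ↥H) : V ≃ₗ[F] V) B v w =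
        B (T q u (θ (ι (-α))) v) (T q u (θ (ι (-α))) w) := by
      intro α
      change B ((((ε (Multiplicative.ofAdd (ι α)))⁻¹ : ↥H) : V ≃ₗ[F] V) v)
        ((((ε (Multiplicative.ofAdd (ι α)))⁻¹ : ↥H) : V ≃ₗ[F] V) w) = _
      have e4 : ι (-α) = -ι α := map_neg ι α
      rw [hεinv, e4]
      rfl
    rw [Finset.sum_congr rfl fun α _ => e2 α]
    exact Fintype.sum_equiv (Equiv.neg A) _ _ fun a => rfl

/-- **Thin overgroups normalise `K`**, characteristic three and degree three. -/
theorem Over.le_NK_three [Finite K] [FiniteDimensional F V] (h : Over q Q H)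
    [CharP F 3] (hr : finrank F K = 3) (hK : 3 ≤ finrank K V)
    {u : V} (hu : q u = 0) (hu0 : u ≠ 0) (hthin : Thin q H u) : H ≤ NK F K V := by
  classical
  have := Fintype.ofFinite K
  have hp : 3 ≠ 2 := by norm_num
  have hfF : Finite F := finiteF F K
  have := Fintype.ofFinite F
  have hfK : FiniteDimensional F K := Module.Finite.of_finite
  have hfX : Finite (BF F V) := Module.finite_of_finite F
  have hfV : Finite V := Module.finite_of_finite F
  have hfE : Finite (V ≃ₗ[F] V) := Finite.of_injective (fun g => (g : V → V)) (by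
    intro a b hab
    ext v
    exact congrFun hab v)
  have hq := h.nondeg
  have h2 : (2 : F) ≠ 0 := CharP.cast_ne_zero_of_ne_of_prime F Nat.prime_two hp
  have hcK : CharP K 3 := charP_of_injective_algebraMap (algebraMap F K).injective 3
  have h2K : (2 : K) ≠ 0 := CharP.cast_ne_zero_of_ne_of_prime K Nat.prime_two hp
  obtain ⟨u', hyp⟩ := exists_hyp hq hu hu0
  obtain ⟨x₀, hx₀, hux₀⟩ := exists_nonsing_perp' hq hK hu hu0
  let θl : K →ₗ[F] V := (LinearMap.toSpanSingleton K V x₀).restrictScalars F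
  set θ : K →+ V := (θl : K →+ V) with hθd
  have hθv : ∀ t : K, θ t = t • x₀ := fun t => rfl
  have hθ : ∀ a, polar q u (θ a) = 0 := by
    intro a
    rw [hθv, polar_smul_right, hux₀, smul_zero]
  have hθq : ∀ a, a ≠ 0 → q (θ a) ≠ 0 := by
    intro a ha
    rw [hθv, QuadraticMap.map_smul]
    exact mul_ne_zero (mul_ne_zero ha ha) hx₀
  have hpX : ∀ B : BF F V, 3 • B = 0 := by
    intro B
    rw [← Nat.cast_smul_eq_nsmul F, CharP.cast_eq_zero, zero_smul]
  have hpA : ∀ a : K, 3 • a = 0 := by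
    intro a
    rw [← Nat.cast_smul_eq_nsmul K, CharP.cast_eq_zero, zero_smul]
  have hE : IsPGroup 3 (h.eps hp hu θ hθ).range := by
    rintro ⟨_, a, rfl⟩
    refine ⟨1, ?_⟩
    apply Subtype.ext
    change (h.eps hp hu θ hθ a) ^ 3 ^ 1 = 1
    rw [pow_one, ← map_pow]
    have : a ^ 3 = 1 := by
      change Multiplicative.ofAdd (3 • a.toAdd) = 1
      rw [hpA]
      rfl
    rw [this, map_one]
  have hEM : (h.eps hp hu θ hθ).range ≤ (NK F K V).subgroupOf H := by
    rintro _ ⟨a, rfl⟩
    exact res_mem_NK _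
  have hC : ∀ a : ↥H, a ∉ (NK F K V).subgroupOf H →
      ∃ C : Finset ↥H, (∀ c ∈ C, c ∈ (h.eps hp hu θ hθ).range) ∧
      (∀ c ∈ C, ∀ c' ∈ C, (c * a)⁻¹ * (c' * a) ∈ (NK F K V).subgroupOf H → c = c') ∧
      (∀ y ∈ (h.eps hp hu θ hθ).range, ∃ c ∈ C, (y * a)⁻¹ * (c * a) ∈ (NK F K V).subgroupOf H) ∧
      ∀ x : BF F V, (∀ d ∈ (h.eps hp hu θ hθ).range, a⁻¹ * d * a ∈ (NK F K V).subgroupOf H →
        rhoB F V (d : V ≃ₗ[F] V) x = x) → ∑ c ∈ C, rhoB F V (c : V ≃ₗ[F] V) x = 0 := by
    intro a ha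
    set y : K → (V ≃ₗ[F] V) := fun t =>
      ((a⁻¹ * h.eps hp hu θ hθ (Multiplicative.ofAdd t) * a : ↥H) : V ≃ₗ[F] V) with hy
    have hyadd : ∀ t t', y (t + t') = y t * y t' := by
      intro t t'
      have e1 : h.eps hp hu θ hθ (Multiplicative.ofAdd (t + t')) =
          h.eps hp hu θ hθ (Multiplicative.ofAdd t) *
            h.eps hp hu θ hθ (Multiplicative.ofAdd t') := by
        rw [← map_mul]
        rfl
      have e3 : a⁻¹ * h.eps hp hu θ hθ (Multiplicative.ofAdd (t + t')) * a =
          (a⁻¹ * h.eps hp hu θ hθ (Multiplicative.ofAdd t) * a) *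
            (a⁻¹ * h.eps hp hu θ hθ (Multiplicative.ofAdd t') * a) := by
        rw [e1]
        group
      exact congrArg Subtype.val e3
    have hy0 : y 0 = 1 := by
      have e1 := hyadd 0 0
      rw [add_zero] at e1
      exact (mul_eq_left.1 e1.symm)
    have hyneg : ∀ t, y (-t) = (y t)⁻¹ := by
      intro t
      rw [eq_inv_iff_mul_eq_one, ← hyadd, neg_add_cancel, hy0]
    have key1 : ∀ t, t ≠ 0 → ¬ ∀ (c : K) (v : V), y t (c • v) = c • y t v := by
      intro t ht hlin
      apply ha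
      exact h.star_lin hp hK hu hu0 hthin (hθ t) (hθq t ht) a.2 hlin
    have key2 : ∀ t t', t ≠ 0 → t' ≠ 0 → y t ∈ NK F K V → y t' ∈ NK F K V →
        t' = t ∨ t' = -t := by
      intro t t' ht ht' hyt hyt'
      obtain ⟨τ, hτ⟩ := hyt
      obtain ⟨τ', hτ'⟩ := hyt'
      have h1 : τ ≠ 1 := by
        intro h1
        apply key1 t ht
        intro c v
        rw [hτ, h1]
        rfl
      have h3 : τ' ≠ 1 := by
        intro h1
        apply key1 t' ht'
        intro c v
        rw [hτ', h1]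
        rfl
      have hcard : Nat.card (K ≃ₐ[F] K) = 3 := by
        rw [IsGalois.card_aut_eq_finrank, hr]
      rcases order_three hcard h1 h3 with h4 | h4
      · right
        by_contra hne
        apply key1 (t + t') (fun h0 => hne (eq_neg_of_add_eq_zero_right h0))
        intro c v
        have e1 : y (t + t') (c • v) = τ (τ' c) • y (t + t') v := by
          rw [hyadd]
          change y t (y t' (c • v)) = _ • y t (y t' v)
          rw [hτ', hτ]
        rw [e1]
        have e3 : τ (τ' c) = (τ * τ') c := rfl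
        rw [e3, h4]
        rfl
      · left
        by_contra hne
        apply key1 (-t + t') (fun h0 => hne (neg_add_eq_zero.1 h0).symm)
        intro c v
        have e1 : y (-t + t') (c • v) = (τ.symm (τ' c)) • y (-t + t') v := by
          rw [hyadd, hyneg]
          apply (y t).injective
          change y t ((y t)⁻¹ (y t' (c • v))) = y t (τ.symm (τ' c) • (y t)⁻¹ (y t' v))
          have e4 : ∀ z, y t ((y t)⁻¹ z) = z := fun z => (y t).apply_symm_apply z
          rw [e4, hτ, e4, hτ', AlgEquiv.apply_symm_apply]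
        rw [e1, ← h4, AlgEquiv.symm_apply_apply]
    by_cases hD : ∃ t₀, t₀ ≠ 0 ∧ y t₀ ∈ NK F K V
    · obtain ⟨t₀, ht₀, hyt₀⟩ := hD
      let algZF : Algebra (ZMod 3) F := ZMod.algebra F 3
      let algZK : Algebra (ZMod 3) K := ZMod.algebra K 3
      let modZV : Module (ZMod 3) V := Module.compHom V (algebraMap (ZMod 3) K)
      have tZFK : IsScalarTower (ZMod 3) F K := IsScalarTower.of_algebraMap_eq' (RingHom.ext_zmod _ _)
      have tZKV : IsScalarTower (ZMod 3) K V := ⟨fun a b c => by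
        rw [Algebra.smul_def, mul_smul]
        rfl⟩
      have tZFV : IsScalarTower (ZMod 3) F V := ⟨fun a b c => by
        have e1 : a • (b • c) = algebraMap (ZMod 3) K a • (b • c) := rfl
        rw [e1, Algebra.smul_def, mul_smul, ← algebraMap_smul K (algebraMap (ZMod 3) F a) (b • c),
          ← IsScalarTower.algebraMap_apply]⟩
      have hfZV : FiniteDimensional (ZMod 3) V := Module.Finite.of_finite
      have hfZK : FiniteDimensional (ZMod 3) K := Module.Finite.of_finite
      have hfZF : FiniteDimensional (ZMod 3) F := Module.Finite.of_finite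
      obtain ⟨W, hW⟩ := Submodule.exists_isCompl (Submodule.span (ZMod 3) {t₀})
      have hspan : ∀ t ∈ Submodule.span (ZMod 3) {t₀}, y t ∈ NK F K V := by
        intro t ht
        obtain ⟨c, rfl⟩ := Submodule.mem_span_singleton.1 ht
        have hc : ∀ c : ZMod 3, c = 0 ∨ c = 1 ∨ c = -1 := by decide
        rcases hc c with rfl | rfl | rfl
        · rw [zero_smul, hy0]
          exact (NK F K V).one_mem
        · rw [one_smul]
          exact hyt₀
        · rw [neg_smul, one_smul, hyneg]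
          exact (NK F K V).inv_mem hyt₀
      have hspan' : ∀ t, y t ∈ NK F K V → t ∈ Submodule.span (ZMod 3) {t₀} := by
        intro t ht
        by_cases ht0 : t = 0
        · rw [ht0]
          exact Submodule.zero_mem _
        rcases key2 t₀ t ht₀ ht0 hyt₀ ht with rfl | rfl
        · exact Submodule.mem_span_singleton_self _
        · exact Submodule.neg_mem _ (Submodule.mem_span_singleton_self _)
      have hrank : 2 ≤ finrank (ZMod 3) W := by
        have h1 := Submodule.finrank_add_eq_of_isCompl hW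
        rw [finrank_span_singleton ht₀] at h1
        have h3 := Module.finrank_mul_finrank (ZMod 3) F K
        rw [hr] at h3
        have h4 : 0 < finrank (ZMod 3) F := Module.finrank_pos
        omega
      refine h.exists_C hp hu hu0 θ hθ hθq a (A := W) (W.subtype : W →+ K) ?_ ?_ ?_
      · intro α hα
        have h1 := hspan' _ hα
        have h3 : (α : K) ∈ Submodule.span (ZMod 3) {t₀} ⊓ W := ⟨h1, α.2⟩
        rw [hW.inf_eq_bot] at h3
        exact Subtype.ext ((Submodule.mem_bot _).1 h3)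
      · intro t
        have h1 : t ∈ Submodule.span (ZMod 3) {t₀} ⊔ W := by
          rw [hW.sup_eq_top]
          trivial
        obtain ⟨s, hs, w, hw, rfl⟩ := Submodule.mem_sup.1 h1
        refine ⟨⟨w, hw⟩, ?_⟩
        have e1 : s + w - (W.subtype : W →+ K) ⟨w, hw⟩ = s := by
          change s + w - w = s
          rw [add_sub_cancel_right]
        rw [e1]
        exact hspan s hs
      · intro B hB
        have hB0 := BF_line_eq_zero h2K hyp (hθ t₀) (hθq t₀ ht₀) B (hB t₀ hyt₀)
        let θ' : W →ₗ[ZMod 3] V := (θ.comp (W.subtype : W →+ K)).toZModLinearMap 3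
        exact sum_T_eq_zero' (F₀ := ZMod 3) h2K (A := W) (by
          rw [ZMod.card]
          omega) hu θ' (fun α => hθ _) B hB0
    · push Not at hD
      refine h.exists_C hp hu hu0 θ hθ hθq a (A := K) (AddMonoidHom.id K) ?_ ?_ ?_
      · intro α hα
        by_contra hne
        exact hD α hne hα
      · intro t
        refine ⟨t, ?_⟩
        rw [AddMonoidHom.id_apply, sub_self]
        have : y 0 ∈ NK F K V := by
          rw [hy0]
          exact (NK F K V).one_mem
        exact this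
      · intro B _
        refine sum_T_eq_zero (F := F) h2K ?_ hu θl hθ B
        have hcF : 3 ≤ Fintype.card F := by
          obtain ⟨n, hn⟩ := FiniteField.card F 3
          rw [hn.2]
          exact Nat.le_self_pow n.pos.ne' 3
        rw [hr]
        omega
  intro g hg
  apply mem_NK_of_preserves hq h2 (by omega : 2 ≤ finrank K V)
  intro B
  refine green2_BF (G := ↥H) (fun g B => rhoB F V (g : V ≃ₗ[F] V) B)
    (fun g B B' => rhoB_add _ _ _) (fun B => ?_) (fun g g' B => ?_)
    ((NK F K V).subgroupOf H)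
    (h.eps hp hu θ hθ).range hE hpX hEM hC (prB K) prB_add
    (prB_prB h2) (fun m hm B => prB_rho hm B) ?_ ⟨g⁻¹, H.inv_mem hg⟩ B
  · change rhoB F V (1 : V ≃ₗ[F] V) B = B
    rw [map_one]
    rfl
  · change rhoB F V ((g : V ≃ₗ[F] V) * (g' : V ≃ₗ[F] V)) B = _
    rw [map_mul]
    rfl
  · intro S hS B
    refine h.gen hp hK hu hu0 θ hθ B S ?_
    intro m hm x hx1 hx2
    refine hS m hm x hx1 ?_
    rintro _ ⟨a, rfl⟩
    exact hx2 a

end Cfsg.Agent.H923.KF
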