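import Mathlib
import Cfsg.Agent.H923.NotThin
import Cfsg.Agent.H925.ExtGeo

/-!
Maximality of the normalisers of self-adjoint field subalgebras of odd prime degree in `Ω`.
-/

set_option autoImplicit false
set_option linter.unusedSectionVars false

namespace Cfsg.Agent.H923.Wrap

open QuadraticMap Cfsg.Geo Cfsg.Agent.LieClassical.OrthCore Cfsg.Agent.LieClassical.OrthTrans
  Cfsg.Agent.LieClassical.OrthFinite Cfsg.Agent.H887.OmegaBridge Cfsg.Agent.H925.Ext
  Cfsg.Agent.H923.KF
open scoped MatrixGroups Matrix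

universe u

variable {ι : Type} [Fintype ι] [DecidableEq ι] {F : Type u} [Field F]

/-- The degree of a field subalgebra divides the dimension. -/
theorem exists_mul_eq_card [Finite F] [Nonempty ι] {r : ℕ}
    {K : Subalgebra F (Matrix ι ι F)} (hK : IsFieldSubalgebra r K) :
    ∃ k : ℕ, k * r = Fintype.card ι := by
  let instK : Field K := (H912.isField_of_fieldSub hK).toField
  have h1 := Module.finrank_mul_finrank F K (ι → F)
  rw [hK.finrank_eq, Module.finrank_fintype_fun_eq_card, mul_comm] at h1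
  exact ⟨_, h1⟩

/-- **The transfer.**  `hmain` is the theorem on overgroups (the proof follows
`H925.Ext.isMaximalIn_of_main`). -/
theorem isMaximalIn_of_over [Finite F] {Q : (ι → F) → F} (hQ : IsNondegenerateQuadraticForm Q)
    (hn : 5 ≤ Fintype.card ι) (h2 : (2 : F) ≠ 0) {r : ℕ} (hr : r.Prime)
    {K : Subalgebra F (Matrix ι ι F)} (hK : IsFieldSubalgebra r K)
    (hsa : IsSelfAdjointFor (polar Q) K)
    (hmain : ∀ (K' : Type u) [Field K'] [Algebra F K'] [Module K' (ι → F)]
      [IsScalarTower F K' (ι → F)] [Finite K']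
      (q : QuadraticForm K' (ι → F)) (H : Subgroup ((ι → F) ≃ₗ[F] (ι → F))),
      Over q (H887.OmegaBridge.qf Q hQ) H → Module.finrank F K' = r →
        Module.finrank K' (ι → F) * r = Fintype.card ι → ¬ H ≤ NK F K' (ι → F) →
          E (H887.OmegaBridge.qf Q hQ) ≤ H) :
    IsMaximalIn (omegaGL Q) (subalgebraNormalizer K ⊓ omegaGL Q) := by
  have : Nonempty ι := Fintype.card_pos_iff.1 (by omega)
  have hG : Good (H887.OmegaBridge.qf Q hQ) := good_of_finite (H887.OmegaBridge.nondeg_qf Q hQ)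
    (by rwa [Module.finrank_fintype_fun_eq_card])
  obtain ⟨τ, hτ⟩ := H926.exists_tau K
  let instK : Field K := (H912.isField_of_fieldSub hK).toField
  have : Finite K := Module.finite_of_finite F
  have hf : IsBilinearForm (polar Q) := hQ.polar_bilinear
  let B : LinearMap.BilinForm K (ι → F) := LinearMap.mk₂ K (fun u v => H926.kForm hK hτ hf u v)
    (fun u u' v => H926.kForm_unique hK hτ hf fun k => by
      rw [mul_add, map_add, H926.kForm_spec, H926.kForm_spec, Matrix.mulVec_add, hf.add_left])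
    (fun c u v => H926.kForm_unique hK hτ hf fun k => by
      have h1 : k * c • H926.kForm hK hτ hf u v = (k * c) * H926.kForm hK hτ hf u v := by
        rw [smul_eq_mul, mul_assoc]
      rw [h1, H926.kForm_spec]
      show polar Q (((k : Matrix ι ι F) * (c : Matrix ι ι F)) *ᵥ u) v =
        polar Q ((k : Matrix ι ι F) *ᵥ ((c : Matrix ι ι F) *ᵥ u)) v
      rw [Matrix.mulVec_mulVec])
    (fun u v v' => H926.kForm_unique hK hτ hf fun k => by
      rw [mul_add, map_add, H926.kForm_spec, H926.kForm_spec, hf.add_right])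
    (fun c u v => H926.kForm_unique hK hτ hf fun k => by
      have h1 : k * c • H926.kForm hK hτ hf u v = (c * k) * H926.kForm hK hτ hf u v := by
        rw [smul_eq_mul, ← mul_assoc, mul_comm k c]
      rw [h1, H926.kForm_spec]
      show polar Q (((c : Matrix ι ι F) * (k : Matrix ι ι F)) *ᵥ u) v =
        polar Q ((k : Matrix ι ι F) *ᵥ u) ((c : Matrix ι ι F) *ᵥ v)
      rw [← Matrix.mulVec_mulVec, hsa c c.2])
  have hB : ∀ (k : K) (u v : ι → F), τ (k * B u v) = polar Q ((k : Matrix ι ι F) *ᵥ u) v :=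
    fun k u v => H926.kForm_spec hK hτ hf u v k
  have hB1 : ∀ (u v : ι → F), τ (B u v) = polar Q u v := by
    intro u v
    have := hB 1 u v
    rw [one_mul] at this
    rw [this]
    show polar Q ((1 : Matrix ι ι F) *ᵥ u) v = polar Q u v
    rw [Matrix.one_mulVec]
  have hBsymm : ∀ u v, B u v = B v u := by
    intro u v
    apply tau_ext' hτ
    intro k
    rw [hB, hB, hsa k k.2, polar_comm]
  have h2K : (2 : K) ≠ 0 := by
    intro h0
    apply h2
    apply (algebraMap F K).injective
    rw [map_ofNat, map_zero]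
    exact h0
  let QK : QuadraticForm K (ι → F) := (2 : K)⁻¹ • B.toQuadraticMap
  have hQK : ∀ v, QK v = (2 : K)⁻¹ * B v v := fun v => rfl
  have hpolar : ∀ u v, polar QK u v = B u v := by
    intro u v
    rw [QuadraticMap.polar, hQK, hQK, hQK, map_add, map_add, LinearMap.add_apply,
      LinearMap.add_apply, hBsymm v u]
    field_simp
    ring
  have hTr : Tr τ QK (H887.OmegaBridge.qf Q hQ) := by
    refine ⟨hτ, fun v => ?_⟩
    rw [H887.OmegaBridge.qf_apply, hQK]
    have e1 : (2 : K)⁻¹ * B v v = (2 : F)⁻¹ • B v v := by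
      rw [Algebra.smul_def, map_inv₀, map_ofNat]
    rw [e1, map_smul, hB1, smul_eq_mul]
    have h3 : polar (H887.OmegaBridge.qf Q hQ) v v = 2 * H887.OmegaBridge.qf Q hQ v := polar_self' v
    change polar Q v v = 2 * Q v at h3
    rw [h3, ← mul_assoc, inv_mul_cancel₀ h2, one_mul]
  have hnd : Nondeg QK := by
    intro x hx
    apply H887.OmegaBridge.nondeg_qf Q hQ
    intro y
    change polar Q x y = 0
    rw [← hB1, ← hpolar, hx y, map_zero]
  have hdim : Module.finrank K (ι → F) * r = Fintype.card ι := by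
    have h1 := Module.finrank_mul_finrank F K (ι → F)
    rw [hK.finrank_eq, Module.finrank_fintype_fun_eq_card, mul_comm] at h1
    exact h1
  obtain ⟨δ, hδ⟩ := exists_trace_rep τ
  let q : QuadraticForm K (ι → F) := δ • QK
  have hq : ∀ v, q v = δ * QK v := fun v => rfl
  have hIs : IsTr q (H887.OmegaBridge.qf Q hQ) := by
    intro v
    rw [hTr.eq, hδ, hq]
  refine H887.OmegaBridge.isMaximalIn_omegaGL Q hQ hG (subalgebraNormalizer K) {g | NormK K g}
    mem_subalgebraNormalizer_iff' ?_ ?_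
  · by_contra hcon
    push Not at hcon
    apply Cfsg.Agent.H925.omegaGL_not_le_subalgebraNormalizer hQ hn hr.two_le hK
    intro g hg
    rw [mem_subalgebraNormalizer_iff']
    exact hcon _ ((H887.OmegaBridge.mem_omegaGL_iff Q hQ hG g).1 hg)
  · have hN : ∀ g : (ι → F) ≃ₗ[F] (ι → F), g ∈ NK F K (ι → F) → NormK K g := by
      rintro g ⟨τ', hτ'⟩ k
      refine ⟨τ'.symm k, fun x => ?_⟩
      apply g.injective
      have e1 : g (g⁻¹ (k • g x)) = k • g x := g.apply_symm_apply _
      rw [e1, hτ', AlgEquiv.apply_symm_apply]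
    intro H hHE hSH hex
    refine hmain K q H ⟨hIs, hG, hHE, fun g hg hgN => hSH g hg (hN g hgN)⟩ hK.finrank_eq hdim ?_
    intro hcon
    obtain ⟨g, hg, hgN⟩ := hex
    exact hgN (hN g (hcon hg))

/-- **Self-adjoint field subalgebras of odd prime degree.** -/
theorem selfAdjoint_isMaximalIn_odd [Finite F] {Q : (ι → F) → F}
    (hQ : IsNondegenerateQuadraticForm Q) (h2 : (2 : F) ≠ 0) {r : ℕ} (hr : r.Prime) (hr2 : r ≠ 2)
    (hn : 3 * r ≤ Fintype.card ι) (hex : ¬ (ringChar F = 3 ∧ r = 3 ∧ Fintype.card ι = 9))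
    {K : Subalgebra F (Matrix ι ι F)} (hK : IsFieldSubalgebra r K)
    (hsa : IsSelfAdjointFor (polar Q) K) :
    IsMaximalIn (omegaGL Q) (subalgebraNormalizer K ⊓ omegaGL Q) := by
  have hr3 : 3 ≤ r := by
    have := hr.two_le
    omega
  refine isMaximalIn_of_over hQ (by omega) h2 hr hK hsa ?_
  intro K' _ _ _ _ _ q H hO hrK hdim hH
  obtain ⟨p, hpr, hcp⟩ : ∃ p : ℕ, p.Prime ∧ CharP F p :=
    ⟨ringChar F, CharP.char_is_prime F _, ringChar.charP F⟩
  have : Fact p.Prime := ⟨hpr⟩
  have hp : p ≠ 2 := by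
    rintro rfl
    apply h2
    have := CharP.cast_eq_zero F 2
    exact_mod_cast this
  have hd : 3 ≤ Module.finrank K' (ι → F) := by
    by_contra hcon
    have h3 : Module.finrank K' (ι → F) * r ≤ 2 * r := Nat.mul_le_mul_right r (by omega)
    omega
  have hfd : FiniteDimensional K' (ι → F) := Module.Finite.of_finite
  obtain ⟨u, -, hu0, hu⟩ := exists_sing_mem (Q := q) (⊤ : Submodule K' (ι → F)) (by
    rw [finrank_top]; exact hd)
  refine hO.main hp (by rw [hrK]; exact hr) (by rw [hrK]; exact hr2) hd ?_ hu hu0 hH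
  rintro ⟨h1, h3, h4⟩
  apply hex
  rw [hrK] at h3
  rw [h4, h3] at hdim
  refine ⟨?_, h3, hdim.symm⟩
  rw [← h1]
  exact (ringChar.eq F p).symm ▸ rfl

end Cfsg.Agent.H923.Wrap
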