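import Mathlib
import Cfsg.Agent.H923.ThreeEnd
import Cfsg.Agent.H923.Wrap

/-!
Maximality of the normalisers of self-adjoint field subalgebras of odd prime degree in `Ω`: all
cases.
-/

set_option autoImplicit false
set_option linter.unusedSectionVars false

namespace Cfsg.Agent.H923.KF

open QuadraticMap Module Cfsg.Agent.LieClassical.OrthCore Cfsg.Agent.LieClassical.OrthTrans
  Cfsg.Agent.LieClassical.OrthSimple Cfsg.Agent.ClassicalGeometry.OrthAutBasic

variable {F K V : Type*} [Field F] [Field K] [Algebra F K] [AddCommGroup V] [Module F V]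
  [Module K V] [IsScalarTower F K V] {q : QuadraticForm K V} {Q : QuadraticForm F V}
  {H : Subgroup (V ≃ₗ[F] V)} [Finite K] [FiniteDimensional F V]

/-- **Overgroups of `N_Ω(K)`, `K` of odd prime degree**, all characteristics. -/
theorem Over.main_all (h : Over q Q H) {p : ℕ} [Fact p.Prime] [CharP F p] (hp : p ≠ 2)
    (hr : (finrank F K).Prime) (hr2 : finrank F K ≠ 2) (hK : 3 ≤ finrank K V)
    {u : V} (hu : q u = 0) (hu0 : u ≠ 0) (hH : ¬ H ≤ NK F K V) : E Q ≤ H := by
  by_cases hthin : Thin q H u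
  · by_cases hex : p = 3 ∧ finrank F K = 3 ∧ finrank K V = 3
    · obtain ⟨rfl, h3, -⟩ := hex
      exact absurd (h.le_NK_three h3 hK hu hu0 hthin) hH
    · exact absurd (h.le_NK hp hr hK hex hu hu0 hthin (Or.inl fun hc => hr2 hc.2)) hH
  · exact h.E_le_of_not_thin hp hr hr2 hK hu hu0 hthin

end Cfsg.Agent.H923.KF

namespace Cfsg.Agent.H923.Wrap

open QuadraticMap Cfsg.Geo Cfsg.Agent.LieClassical.OrthCore Cfsg.Agent.LieClassical.OrthTrans
  Cfsg.Agent.LieClassical.OrthFinite Cfsg.Agent.H887.OmegaBridge Cfsg.Agent.H925.Ext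
  Cfsg.Agent.H923.KF
open scoped MatrixGroups Matrix

universe u

variable {ι : Type} [Fintype ι] [DecidableEq ι] {F : Type u} [Field F]

/-- **Self-adjoint field subalgebras of odd prime degree**, `dim_K ≥ 3`. -/
theorem selfAdjoint_isMaximalIn_odd_all [Finite F] {Q : (ι → F) → F}
    (hQ : IsNondegenerateQuadraticForm Q) (h2 : (2 : F) ≠ 0) {r : ℕ} (hr : r.Prime) (hr2 : r ≠ 2)
    (hn : 3 * r ≤ Fintype.card ι)
    {K : Subalgebra F (Matrix ι ι F)} (hK : IsFieldSubalgebra r K)
    (hsa : IsSelfAdjointFor (polar Q) K) :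
    IsMaximalIn (omegaGL Q) (subalgebraNormalizer K ⊓ omegaGL Q) := by
  have hr3 : 3 ≤ r := by
    have := hr.two_le
    omega
  refine isMaximalIn_of_over hQ (by omega) h2 hr hK hsa ?_
  intro K' _ _ _ _ _ q H hO hrK hdim hH
  obtain ⟨p, hpr, hcp⟩ : ∃ p : ℕ, p.Prime ∧ CharP F p :=
    ⟨ringChar F, CharP.char_is_prime F _, ringChar.charP F⟩
  have : Fact p.Prime := ⟨hpr⟩
  have hp : p ≠ 2 := by
    rintro rfl
    apply h2
    have := CharP.cast_eq_zero F 2
    exact_mod_cast this
  have hd : 3 ≤ Module.finrank K' (ι → F) := by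
    by_contra hcon
    have h3 : Module.finrank K' (ι → F) * r ≤ 2 * r := Nat.mul_le_mul_right r (by omega)
    omega
  have hfd : FiniteDimensional K' (ι → F) := Module.Finite.of_finite
  obtain ⟨u, -, hu0, hu⟩ := exists_sing_mem (Q := q) (⊤ : Submodule K' (ι → F)) (by
    rw [finrank_top]; exact hd)
  exact hO.main_all hp (by rw [hrK]; exact hr) (by rw [hrK]; exact hr2) hd hu hu0 hH

end Cfsg.Agent.H923.Wrap
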